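import Mathlib
import Groth.Prelude.Def_RegImm
import Groth.Agent.PPSheaf.ConormalComp
import Groth.Agent.S9325
import Groth.Agent.KRegLib.Kinds

/-!
# The conormal sequence of a regular immersion followed by an immersion
-/

set_option autoImplicit false
set_option linter.style.haveILetI false
set_option backward.isDefEq.respectTransparency.types false

universe u

open CategoryTheory CategoryTheory.Limits AlgebraicGeometry TopologicalSpace

namespace Groth.Agent.RegConormal

open Groth.Agent.Synt29.OmegaStalk Groth.Agent.Synt29.ConormalStalk Groth.Agent.KFlatLib Groth.Agent.PPSheaf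

/-- `H_1`-regular sequences stay `H_1`-regular in localizations. -/
theorem isH1Regular_localization {A B : Type u} [CommRing A] [CommRing B] [Algebra A B] (M : Submonoid A)
    [IsLocalization M B] {c : ℕ} (f : Fin c → A) (h : CAlgX.IsH1Regular f) :
    CAlgX.IsH1Regular (fun i => algebraMap A B (f i)) := by
  intro a ha
  obtain ⟨b, hb⟩ := IsLocalization.exist_integer_multiples_of_finite M a
  choose a' ha' using hb
  have ha'' : ∀ i, algebraMap A B (a' i) = algebraMap A B (b : A) * a i := fun i => by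
    rw [ha' i, Algebra.smul_def]
  have h0 : algebraMap A B (∑ i, a' i * f i) = 0 := by
    rw [map_sum]
    calc ∑ i, algebraMap A B (a' i * f i) = ∑ i, algebraMap A B (b : A) * (a i * algebraMap A B (f i)) :=
          Finset.sum_congr rfl fun i _ => by rw [map_mul, ha'', mul_assoc]
      _ = 0 := by rw [← Finset.mul_sum, ha, mul_zero]
  obtain ⟨t, ht⟩ := (IsLocalization.map_eq_zero_iff M B _).1 h0
  have h1 : ∑ i, ((t : A) * a' i) * f i = 0 := by
    rw [← ht, Finset.mul_sum]
    exact Finset.sum_congr rfl fun i _ => mul_assoc _ _ _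
  let S : Set (Fin c → B) := {v | ∃ i j : Fin c,
    v = Pi.single i (algebraMap A B (f j)) - Pi.single j (algebraMap A B (f i))}
  have key : ∀ v ∈ Submodule.span A {v : Fin c → A | ∃ i j : Fin c, v = Pi.single i (f j) - Pi.single j (f i)},
      (fun k => algebraMap A B (v k)) ∈ Submodule.span B S := by
    intro v hv
    induction hv using Submodule.span_induction with
    | mem v hv =>
      obtain ⟨i, j, rfl⟩ := hv
      refine Submodule.subset_span ⟨i, j, ?_⟩
      funext k
      simp only [Pi.sub_apply, map_sub, Pi.single_apply, apply_ite (algebraMap A B), map_zero]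
    | zero =>
      simp only [Pi.zero_apply, map_zero]
      exact zero_mem (Submodule.span B S)
    | add v w _ _ hv hw =>
      have := add_mem hv hw
      simpa only [Pi.add_apply, map_add, Pi.add_def] using this
    | smul r v _ hv =>
      have := Submodule.smul_mem (Submodule.span B S) (algebraMap A B r) hv
      simpa only [Pi.smul_apply, smul_eq_mul, map_mul, Pi.smul_def] using this
  have h2 := key _ (h _ h1)
  have h3 : (fun k => algebraMap A B ((t : A) * a' k)) = algebraMap A B ((t * b : M) : A) • a := by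
    funext k
    rw [Pi.smul_apply, smul_eq_mul, map_mul, ha'', Submonoid.coe_mul, map_mul, mul_assoc]
  rw [h3] at h2
  exact (Submodule.smul_mem_iff_of_isUnit (Submodule.span B S) (IsLocalization.map_units B (t * b))).1 h2

/-- At a point, the ideal of an `H_1`-regular immersion is generated by an `H_1`-regular sequence. -/
theorem exists_stalk_h1 {Z P : Scheme.{u}} (i : Z ⟶ P) (z : Z) (U : P.affineOpens) (hzU : i z ∈ U.1)
    (hcl : IsClosedImmersion (i ∣_ U.1)) (rs : List Γ(P, U.1)) (hrs : CAlgX.IsH1Regular rs.get)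
    (hker : RingHom.ker (i.app U.1).hom = Ideal.ofList rs) :
    ∃ (c : ℕ) (g : Fin c → P.presheaf.stalk (i z)), CAlgX.IsH1Regular g ∧
      Ideal.span (Set.range g) = RingHom.ker (i.stalkMap z).hom := by
  obtain ⟨hV, hs⟩ := Groth.Agent.Synt29.surjective_app_of_isClosedImmersion_restrict i U.1 U.2
  let φ : Γ(P, U.1) →+* Γ(Z, i ⁻¹ᵁ U.1) := (i.app U.1).hom
  letI : Algebra Γ(P, U.1) (P.presheaf.stalk (i z)) := (P.presheaf.germ U.1 (i z) hzU).hom.toAlgebra
  letI : Algebra Γ(Z, i ⁻¹ᵁ U.1) (Z.presheaf.stalk z) := (Z.presheaf.germ (i ⁻¹ᵁ U.1) z hzU).hom.toAlgebra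
  haveI hX : IsLocalization.AtPrime (P.presheaf.stalk (i z)) (U.2.primeIdealOf ⟨i z, hzU⟩).asIdeal :=
    U.2.isLocalization_stalk ⟨i z, hzU⟩
  haveI hZ : IsLocalization.AtPrime (Z.presheaf.stalk z) (hV.primeIdealOf ⟨z, hzU⟩).asIdeal :=
    hV.isLocalization_stalk ⟨z, hzU⟩
  have hc := congrArg PrimeSpectrum.asIdeal
    (IsAffineOpen.comap_primeIdealOf_appLE (f := i) U.1 U.2 (i ⁻¹ᵁ U.1) hV le_rfl hzU)
  have he : (i.appLE U.1 (i ⁻¹ᵁ U.1) le_rfl).hom = φ := by simp only [φ, Scheme.Hom.app_eq_appLE]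
  have hcomap : (U.2.primeIdealOf ⟨i z, hzU⟩).asIdeal = (hV.primeIdealOf ⟨z, hzU⟩).asIdeal.comap φ := by
    rw [← hc, PrimeSpectrum.comap_asIdeal, he]
  let ψ : P.presheaf.stalk (i z) →+* Z.presheaf.stalk z := (i.stalkMap z).hom
  have hf : ∀ a : Γ(P, U.1), ψ (algebraMap _ _ a) = algebraMap _ _ (φ a) := fun a =>
    Scheme.Hom.germ_stalkMap_apply i U.1 z hzU a
  have hM : Submonoid.map φ (U.2.primeIdealOf ⟨i z, hzU⟩).asIdeal.primeCompl =
      (hV.primeIdealOf ⟨z, hzU⟩).asIdeal.primeCompl := by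
    ext b
    constructor
    · rintro ⟨a, ha, rfl⟩ hb
      exact ha (by rw [hcomap]; exact hb)
    · intro hb
      obtain ⟨a, rfl⟩ := hs b
      exact ⟨a, fun h => hb (by rw [hcomap] at h; exact h), rfl⟩
  have hfm : ψ = IsLocalization.map (Z.presheaf.stalk z) φ
      (show (U.2.primeIdealOf ⟨i z, hzU⟩).asIdeal.primeCompl ≤
        (hV.primeIdealOf ⟨z, hzU⟩).asIdeal.primeCompl.comap φ from
        Submonoid.map_le_iff_le_comap.1 hM.le) := by
    refine IsLocalization.ringHom_ext (U.2.primeIdealOf ⟨i z, hzU⟩).asIdeal.primeCompl (RingHom.ext fun a => ?_)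
    rw [RingHom.comp_apply, RingHom.comp_apply, hf, IsLocalization.map_eq]
  have hker' : RingHom.ker ψ = (RingHom.ker φ).map (algebraMap Γ(P, U.1) (P.presheaf.stalk (i z))) := by
    rw [hfm]
    exact IsLocalization.ker_map (Z.presheaf.stalk z) φ hM
  refine ⟨rs.length, fun k => algebraMap Γ(P, U.1) (P.presheaf.stalk (i z)) (rs.get k),
    isH1Regular_localization (U.2.primeIdealOf ⟨i z, hzU⟩).asIdeal.primeCompl _ hrs, ?_⟩
  show _ = RingHom.ker ψ
  rw [hker', show RingHom.ker φ = Ideal.ofList rs from hker,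
    show Ideal.ofList rs = Ideal.span (Set.range rs.get) from congrArg Ideal.span (Set.range_list_get rs).symm,
    Ideal.map_span, ← Set.range_comp]
  rfl

theorem exists_stalk_h1_koszul {Z P : Scheme.{u}} (i : Z ⟶ P) (hi : RegImm.IsRegularImmersion .koszul i) (z : Z) :
    ∃ (c : ℕ) (g : Fin c → P.presheaf.stalk (i z)), CAlgX.IsH1Regular g ∧
      Ideal.span (Set.range g) = RingHom.ker (i.stalkMap z).hom := by
  obtain ⟨U, hzU, hcl, rs, hrs, hker⟩ := hi.2 z
  exact exists_stalk_h1 i z U hzU hcl rs (KRegLib.h1_of_koszul rs hrs) hker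

theorem exists_stalk_h1_h1 {Z P : Scheme.{u}} (i : Z ⟶ P) (hi : RegImm.IsRegularImmersion .h1 i) (z : Z) :
    ∃ (c : ℕ) (g : Fin c → P.presheaf.stalk (i z)), CAlgX.IsH1Regular g ∧
      Ideal.span (Set.range g) = RingHom.ker (i.stalkMap z).hom := by
  obtain ⟨U, hzU, hcl, rs, hrs, hker⟩ := hi.2 z
  exact exists_stalk_h1 i z U hzU hcl rs hrs hker

theorem cls_smul {Z W : Scheme.{u}} (i : Z ⟶ W) (x : Z) (r : W.presheaf.stalk (i x)) (m : St (I i) (i x)) :
    cls i x (r • m) = i.stalkMap x r • cls i x m := by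
  show ((stalkPullbackIso i x).app (I i)).inv (unit1 i x (r • m)) = _
  rw [unit1_smul]
  exact map_smul ((stalkPullbackIso i x).app (I i)).inv.hom _ _

variable {X Y Y' : Scheme.{u}} (f : Y ⟶ X) [IsImmersion f] [QuasiCompact f]
  (j : Y' ⟶ Y) [IsImmersion j] [QuasiCompact j]
  (φ₁ : (Scheme.Modules.pullback j).obj (Omega.conormal f) ⟶ Omega.conormal (j ≫ f))
  (hφ₁ : OmegaSh.IsConormalMap (j ≫ f) f (𝟙 X) j φ₁)
  (φ₂ : (Scheme.Modules.pullback (𝟙 Y')).obj (Omega.conormal (j ≫ f)) ⟶ Omega.conormal j)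
  (hφ₂ : OmegaSh.IsConormalMap j (j ≫ f) f (𝟙 Y') φ₂)

include hφ₁ in
theorem mono_fst (hj : ∀ x : Y', ∃ (c : ℕ) (g : Fin c → Y.presheaf.stalk (j x)), CAlgX.IsH1Regular g ∧
      Ideal.span (Set.range g) = RingHom.ker (j.stalkMap x).hom) : Mono φ₁ := by
  rw [mono_iff_stalk]
  intro x
  refine (injective_iff_map_eq_zero ((DerSch.stalkFunctor Y' x).map φ₁).hom).2 fun u hu => ?_
  obtain ⟨z, hz⟩ := Groth.Agent.Synt29.ConormalExact.exists_unit j x (j.stalkMap_surjective x) _ u
  obtain ⟨U, hx, k, rfl⟩ := exists_conormalSect f (j x) z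
  have hk : Rep f (f (j x)) (gm (I f) hx k) (X.presheaf.germ U (f (j x)) hx (OmegaSh.idealSect f.ker U k)) :=
    ⟨U, hx, k, rfl, rfl⟩
  generalize ha : X.presheaf.germ U (f (j x)) hx (OmegaSh.idealSect f.ker U k) = a at hk
  obtain ⟨u', m', hm', hu', he⟩ := fst_cls f j φ₁ hφ₁ x hk
  obtain rfl : u = u' := (ConcreteCategory.bijective_of_isIso ((stalkPullbackIso j x).app (Omega.conormal f)).hom).1
    (hz.trans (((cls_gm f (j x) hx k) ▸ hu').symm))
  let φ : X.presheaf.stalk (f (j x)) →+* Y.presheaf.stalk (j x) := (f.stalkMap (j x)).hom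
  let Ia : Ideal (X.presheaf.stalk (f (j x))) := RingHom.ker φ
  let Ka : Ideal (X.presheaf.stalk (f (j x))) := (RingHom.ker (j.stalkMap x).hom).comap φ
  have hK : Ka = RingHom.ker ((j ≫ f).stalkMap x).hom := by
    rw [Scheme.Hom.stalkMap_comp]; rfl
  have hsurj : Function.Surjective φ := f.stalkMap_surjective (j x)
  obtain ⟨c, g, hg, hgs⟩ := hj x
  have haI : a ∈ Ia := rep_mem f hk
  have haK : a ∈ Ka ^ 2 := by
    rw [hK]; exact (cls_eq_zero_iff (j ≫ f) x hm').1 (he.symm.trans hu)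
  have hIK : Ia ≤ Ka := fun b hb => by
    show (j.stalkMap x).hom (φ b) = 0
    rw [RingHom.mem_ker.1 hb, map_zero]
  have hgJ : Ideal.span (Set.range g) = Ka.map φ :=
    hgs.trans (Ideal.map_comap_of_surjective φ hsurj _).symm
  have hmul : a ∈ Ia * Ka := Groth.Agent.S9325.inf_sq_le φ hsurj rfl hIK g hg hgJ ⟨haI, haK⟩
  let un : St (Omega.conormal f) (j x) →
      (ModuleCat.extendScalars (j.stalkMap x).hom).obj (St (Omega.conormal f) (j x)) := fun v =>
    ((ModuleCat.extendRestrictScalarsAdj (j.stalkMap x).hom).unit.app (St (Omega.conormal f) (j x))).hom v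
  have key : ∀ b ∈ Ia * Ka, ∃ m, Rep f (f (j x)) m b ∧ un (cls f (j x) m) = 0 := by
    intro b hb
    induction hb using Submodule.mul_induction_on' with
    | mem_mul_mem b hb d hd =>
      obtain ⟨m, hm⟩ := exists_rep f (x := j x) (RingHom.mem_ker.1 hb)
      refine ⟨d • m, (mul_comm d b) ▸ rep_smul f hm d, ?_⟩
      show ((ModuleCat.extendRestrictScalarsAdj (j.stalkMap x).hom).unit.app
        (St (Omega.conormal f) (j x))).hom (cls f (j x) (d • m)) = 0
      rw [cls_smul]
      refine (map_smul ((ModuleCat.extendRestrictScalarsAdj (j.stalkMap x).hom).unit.app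
        (St (Omega.conormal f) (j x))).hom (f.stalkMap (j x) d) (cls f (j x) m)).trans ?_
      show j.stalkMap x (f.stalkMap (j x) d) • un (cls f (j x) m) = 0
      rw [show j.stalkMap x (f.stalkMap (j x) d) = 0 from hd, zero_smul]
    | add b hb d hd ihb ihd =>
      obtain ⟨m₁, h₁, e₁⟩ := ihb
      obtain ⟨m₂, h₂, e₂⟩ := ihd
      refine ⟨m₁ + m₂, rep_add f h₁ h₂, ?_⟩
      show ((ModuleCat.extendRestrictScalarsAdj (j.stalkMap x).hom).unit.app
        (St (Omega.conormal f) (j x))).hom (cls f (j x) (m₁ + m₂)) = 0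
      rw [cls_add, map_add]
      exact (congrArg₂ (· + ·) e₁ e₂).trans (add_zero _)
  obtain ⟨m, hm, hm0⟩ := key a hmul
  refine (ConcreteCategory.bijective_of_isIso ((stalkPullbackIso j x).app (Omega.conormal f)).hom).1 ?_
  refine hu'.trans (Eq.trans ?_ (map_zero _).symm)
  rw [rep_inj f hk hm]
  exact hm0

include hφ₁ hφ₂ in
/-- The conormal sequence of a composite is short exact when the second immersion is `H_1`-regular. -/
theorem shortExact [QuasiCompact (j ≫ f)] [IsImmersion (j ≫ f)]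
    (hj : ∀ x : Y', ∃ (c : ℕ) (g : Fin c → Y.presheaf.stalk (j x)), CAlgX.IsH1Regular g ∧
      Ideal.span (Set.range g) = RingHom.ker (j.stalkMap x).hom) :
    ∃ w : φ₁ ≫ ((Scheme.Modules.pullbackId Y').inv.app (Omega.conormal (j ≫ f)) ≫ φ₂) = 0,
      (ShortComplex.mk φ₁ ((Scheme.Modules.pullbackId Y').inv.app (Omega.conormal (j ≫ f)) ≫ φ₂) w).ShortExact := by
  obtain ⟨hepi, heq⟩ := exact_conormal_comp f j φ₁ hφ₁ φ₂ hφ₂
  have w : φ₁ ≫ ((Scheme.Modules.pullbackId Y').inv.app (Omega.conormal (j ≫ f)) ≫ φ₂) = 0 := by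
    have h : (imageSubobject φ₁).Factors (𝟙 _ ≫ φ₁) := imageSubobject_factors_comp_self (f := φ₁) (𝟙 _)
    rw [Category.id_comp, heq] at h
    exact (kernelSubobject_factors_iff _ _).1 h
  refine ⟨w, ?_⟩
  exact { exact := (ShortComplex.exact_iff_image_eq_kernel _).2 heq
          mono_f := mono_fst f j φ₁ hφ₁ hj
          epi_g := by
            haveI := hepi
            exact epi_comp _ _ }

end Groth.Agent.RegConormal
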