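import Mathlib
import Groth.Agent.RegConormal.Basic
import Groth.Agent.KRegLib.Mor
import Groth.Agent.KFlatLib.Perfect.Spread

/-!
# Koszul regularity passes to the second immersion when the conormal sequence is locally split
-/

set_option autoImplicit false
set_option linter.style.haveILetI false
set_option backward.isDefEq.respectTransparency.types false

universe u

open CategoryTheory CategoryTheory.Limits AlgebraicGeometry TopologicalSpace
open scoped TensorProduct

namespace Groth.Agent.RegConormal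

open Groth.Agent.Synt29.OmegaStalk Groth.Agent.Synt29.ConormalStalk Groth.Agent.KFlatLib Groth.Agent.PPSheaf
open Groth.Agent.WiebeLib

/-- The kernel of a stalk map is extended from the kernel on an affine chart. -/
theorem ker_stalkMap_eq_map {Z P : Scheme.{u}} (i : Z ⟶ P) (z : Z) (U : P.affineOpens) (hzU : i z ∈ U.1)
    (hcl : IsClosedImmersion (i ∣_ U.1)) :
    RingHom.ker (i.stalkMap z).hom = (RingHom.ker (i.app U.1).hom).map (P.presheaf.germ U.1 (i z) hzU).hom := by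
  obtain ⟨hV, hs⟩ := Groth.Agent.Synt29.surjective_app_of_isClosedImmersion_restrict i U.1 U.2
  let φ : Γ(P, U.1) →+* Γ(Z, i ⁻¹ᵁ U.1) := (i.app U.1).hom
  letI : Algebra Γ(P, U.1) (P.presheaf.stalk (i z)) := (P.presheaf.germ U.1 (i z) hzU).hom.toAlgebra
  letI : Algebra Γ(Z, i ⁻¹ᵁ U.1) (Z.presheaf.stalk z) := (Z.presheaf.germ (i ⁻¹ᵁ U.1) z hzU).hom.toAlgebra
  haveI hX : IsLocalization.AtPrime (P.presheaf.stalk (i z)) (U.2.primeIdealOf ⟨i z, hzU⟩).asIdeal :=
    U.2.isLocalization_stalk ⟨i z, hzU⟩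
  haveI hZ : IsLocalization.AtPrime (Z.presheaf.stalk z) (hV.primeIdealOf ⟨z, hzU⟩).asIdeal :=
    hV.isLocalization_stalk ⟨z, hzU⟩
  have hc := congrArg PrimeSpectrum.asIdeal
    (IsAffineOpen.comap_primeIdealOf_appLE (f := i) U.1 U.2 (i ⁻¹ᵁ U.1) hV le_rfl hzU)
  have he : (i.appLE U.1 (i ⁻¹ᵁ U.1) le_rfl).hom = φ := by simp only [φ, Scheme.Hom.app_eq_appLE]
  have hcomap : (U.2.primeIdealOf ⟨i z, hzU⟩).asIdeal = (hV.primeIdealOf ⟨z, hzU⟩).asIdeal.comap φ := by
    rw [← hc, PrimeSpectrum.comap_asIdeal, he]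
  let ψ : P.presheaf.stalk (i z) →+* Z.presheaf.stalk z := (i.stalkMap z).hom
  have hf : ∀ a : Γ(P, U.1), ψ (algebraMap _ _ a) = algebraMap _ _ (φ a) := fun a =>
    Scheme.Hom.germ_stalkMap_apply i U.1 z hzU a
  have hM : Submonoid.map φ (U.2.primeIdealOf ⟨i z, hzU⟩).asIdeal.primeCompl =
      (hV.primeIdealOf ⟨z, hzU⟩).asIdeal.primeCompl := by
    ext b
    constructor
    · rintro ⟨a, ha, rfl⟩ hb
      exact ha (by rw [hcomap]; exact hb)
    · intro hb
      obtain ⟨a, rfl⟩ := hs b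
      exact ⟨a, fun h => hb (by rw [hcomap] at h; exact h), rfl⟩
  have hfm : ψ = IsLocalization.map (Z.presheaf.stalk z) φ
      (show (U.2.primeIdealOf ⟨i z, hzU⟩).asIdeal.primeCompl ≤
        (hV.primeIdealOf ⟨z, hzU⟩).asIdeal.primeCompl.comap φ from
        Submonoid.map_le_iff_le_comap.1 hM.le) := by
    refine IsLocalization.ringHom_ext (U.2.primeIdealOf ⟨i z, hzU⟩).asIdeal.primeCompl (RingHom.ext fun a => ?_)
    rw [RingHom.comp_apply, RingHom.comp_apply, hf, IsLocalization.map_eq]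
  show RingHom.ker ψ = (RingHom.ker φ).map (algebraMap Γ(P, U.1) (P.presheaf.stalk (i z)))
  rw [hfm]
  exact IsLocalization.ker_map (Z.presheaf.stalk z) φ hM

section algebra

variable {P N : Type u} [CommRing P] [CommRing N] (q : P →+* N)

/-- If the conormal sequence is split injective modulo the prime, Koszul regularity passes to the quotient. -/
theorem kReg_of_split (hq : Function.Surjective q) (J : Ideal N) (𝔑 : Ideal N) [𝔑.IsPrime] (hJ : J ≤ 𝔑)
    (h1 : KRegLib.KReg (RingHom.ker q) (𝔑.comap q)) (h2 : KRegLib.KReg (J.comap q) (𝔑.comap q))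
    (hsplit : ∀ b ∈ RingHom.ker q, b ∈ 𝔑.comap q * J.comap q →
      ∃ s, s ∉ 𝔑.comap q ∧ s * b ∈ 𝔑.comap q * RingHom.ker q) :
    KRegLib.KReg J 𝔑 := by
  classical
  obtain ⟨g₁, hg₁, hon₁⟩ := h1.exists_on
  obtain ⟨g₂, hg₂, hon₂⟩ := h2.exists_on
  let g := g₁ * g₂
  let 𝔭 := 𝔑.comap q
  haveI : 𝔭.IsPrime := Ideal.comap_isPrime _ _
  let K₀ := J.comap q
  have hg : g ∉ 𝔭 := fun h => ((Ideal.IsPrime.mem_or_mem inferInstance h : g₁ ∈ 𝔭 ∨ g₂ ∈ 𝔭)).elim hg₁ hg₂
  let T := Localization.Away g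
  haveI : Module.Flat P T := IsLocalization.flat T (Submonoid.powers g)
  obtain ⟨r, F, hF, hFI⟩ := hon₁ T (isUnit_of_mul_isUnit_left
    (show IsUnit (algebraMap P T g₁ * algebraMap P T g₂) by
      rw [← map_mul]; exact IsLocalization.Away.algebraMap_isUnit g))
  obtain ⟨n, m, hm, hmK⟩ := hon₂ T (isUnit_of_mul_isUnit_right
    (show IsUnit (algebraMap P T g₁ * algebraMap P T g₂) by
      rw [← map_mul]; exact IsLocalization.Away.algebraMap_isUnit g))
  obtain ⟨h𝔓, h𝔓c⟩ := KRegLib.exists_prime_of_away T 𝔭 hg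
  let 𝔓 := 𝔭.map (algebraMap P T)
  have hK𝔭 : K₀ ≤ 𝔭 := Ideal.comap_mono hJ
  have hIK : RingHom.ker q ≤ K₀ := fun x hx => by
    show q x ∈ J
    rw [RingHom.mem_ker.1 hx]; exact zero_mem _
  have hm𝔓 : ∀ i, m i ∈ 𝔓 := fun i =>
    Ideal.map_mono (f := algebraMap P T) hK𝔭 (hmK ▸ Ideal.subset_span (Set.mem_range_self i))
  let a : K₀ → T := fun x => algebraMap P T x.1
  have hspan : Ideal.span (Set.range F ∪ Set.range a) = Ideal.span (Set.range m) := by
    rw [Ideal.span_union, ← hmK, ← hFI]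
    have : Ideal.span (Set.range a) = K₀.map (algebraMap P T) := by
      show _ = Ideal.span (algebraMap P T '' K₀)
      rw [show Set.range a = algebraMap P T '' K₀ from (Set.image_eq_range (algebraMap P T) (K₀ : Set P)).symm]
    rw [this]
    exact sup_eq_right.2 (Ideal.map_mono hIK)
  have hind : ∀ c : Fin r → T, ∑ i, c i * F i ∈ 𝔓 * Ideal.span (Set.range m) → ∀ i, c i ∈ 𝔓 := by
    intro c hc
    have hcI : ∑ i, c i * F i ∈ (RingHom.ker q).map (algebraMap P T) := by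
      rw [hFI]
      exact sum_mem fun i _ => Ideal.mul_mem_left _ _ (Ideal.subset_span (Set.mem_range_self i))
    rw [← hmK, ← Ideal.map_mul] at hc
    obtain ⟨⟨b₁, s₁⟩, hb₁⟩ := (IsLocalization.mem_map_algebraMap_iff (Submonoid.powers g) T).1 hcI
    obtain ⟨⟨b₂, s₂⟩, hb₂⟩ := (IsLocalization.mem_map_algebraMap_iff (Submonoid.powers g) T).1 hc
    have he : algebraMap P T (b₁.1 * s₂.1) = algebraMap P T (b₂.1 * s₁.1) := by
      rw [map_mul, map_mul, ← hb₁, ← hb₂]; ring
    obtain ⟨t, ht⟩ := (IsLocalization.eq_iff_exists (Submonoid.powers g) T).1 he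
    obtain ⟨s, hs, hsb⟩ := hsplit (t.1 * (b₁.1 * s₂.1)) (Ideal.mul_mem_left _ _ (Ideal.mul_mem_right _ _ b₁.2))
      (ht ▸ Ideal.mul_mem_left _ _ (Ideal.mul_mem_right _ _ b₂.2))
    let σ : T := algebraMap P T s * (algebraMap P T t * algebraMap P T s₁ * algebraMap P T s₂)
    have h3 : σ * ∑ i, c i * F i ∈ 𝔓 * Ideal.span (Set.range F) := by
      rw [← hFI, ← Ideal.map_mul]
      have := Ideal.mem_map_of_mem (algebraMap P T) hsb
      rw [map_mul, map_mul, map_mul, ← hb₁] at this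
      convert this using 1
      ring
    have hσ : σ ∉ 𝔓 := by
      intro hmem
      refine (h𝔓.mem_or_mem hmem).elim (fun h => hs ?_) fun h => ?_
      · rw [show 𝔑.comap q = 𝔭 from rfl, ← h𝔓c]; exact h
      · exact h𝔓.ne_top (Ideal.eq_top_of_isUnit_mem _ h (((IsLocalization.map_units T t).mul
          (IsLocalization.map_units T s₁)).mul (IsLocalization.map_units T s₂)))
    obtain ⟨w, hw, hwy⟩ : ∃ w : Fin r → T, (∀ i, w i ∈ 𝔓) ∧ ∑ i, w i * F i = σ * ∑ i, c i * F i := by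
      rw [← smul_eq_mul 𝔓, Ideal.span, Submodule.mem_ideal_smul_span_iff_exists_sum 𝔓 F] at h3
      obtain ⟨b, hb, hby⟩ := h3
      exact ⟨fun i => b i, hb, by rw [← hby, Finsupp.sum_fintype _ _ (by simp)]; simp⟩
    have h4 : ∑ i, (σ * c i - w i) * F i = 0 := by
      simp only [sub_mul, Finset.sum_sub_distrib, mul_assoc, ← Finset.mul_sum]
      rw [hwy, sub_self]
    intro i
    have h5 := KRegLib.mem_span_of_sum_eq_zero hF _ h4 i
    have h6 : σ * c i - w i ∈ 𝔓 := by
      rw [← hFI] at h5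
      exact Ideal.map_mono (hIK.trans hK𝔭) h5
    have h7 := add_mem h6 (hw i)
    rw [sub_add_cancel] at h7
    exact (h𝔓.mem_or_mem h7).resolve_left hσ
  obtain ⟨d, hd, t, e, hex⟩ := KRegLib.exists_exchange 𝔓 m hm hm𝔓 F a hspan hind
  let T' := Localization.Away d
  obtain ⟨G, hG, hGT⟩ := KRegLib.exists_away_away T 𝔭 hg d hd T'
  haveI := hGT
  haveI : Module.Flat T T' := IsLocalization.flat T' (Submonoid.powers d)
  obtain ⟨hexact, hsp⟩ := hex T' (IsLocalization.Away.algebraMap_isUnit d)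
  let N' := Localization.Away (q G)
  let q' : T' →+* N' := IsLocalization.Away.map T' N' q G
  have hq'c : q'.comp (algebraMap P T') = (algebraMap N N').comp q := IsLocalization.map_comp _
  let F' : Fin r → T' := fun i => algebraMap T T' (F i)
  have hk' : RingHom.ker q' = Ideal.span (Set.range F') := by
    refine (IsLocalization.ker_map N' q (Submonoid.map_powers q G)).trans ?_
    rw [IsScalarTower.algebraMap_eq P T T', ← Ideal.map_map, hFI, Ideal.map_span, ← Set.range_comp]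
    rfl
  refine ⟨q G, hG, t, _, KRegLib.isExact_of_appendSeq (isExact_map hF)
    (KRegLib.away_map_surjective hq G) hk' _ hexact, ?_⟩
  rw [← hmK, Ideal.map_map, ← IsScalarTower.algebraMap_eq P T T', KRegLib.span_appendSeq] at hsp
  have h2 := congrArg (Ideal.map q') hsp
  rw [Ideal.map_sup, (Ideal.map_eq_bot_iff_le_ker q').2 hk'.ge, bot_sup_eq,
    Ideal.map_span, ← Set.range_comp, Ideal.map_map, hq'c, ← Ideal.map_map,
    Ideal.map_comap_of_surjective q hq] at h2
  exact h2.symm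

end algebra

section stalk

variable {X Y Y' : Scheme.{u}} (f : Y ⟶ X) [IsImmersion f] [QuasiCompact f]
  (j : Y' ⟶ Y) [IsImmersion j] [QuasiCompact j]

/-- The element `1 ⊗ v` of the stalk of a pullback. -/
noncomputable def un1 (x : Y') (M : Y.Modules) (v : St M (j x)) :
    (ModuleCat.extendScalars (j.stalkMap x).hom).obj (St M (j x)) :=
  ((ModuleCat.extendRestrictScalarsAdj (j.stalkMap x).hom).unit.app (St M (j x))).hom v

omit [IsImmersion j] [QuasiCompact j] in
theorem un1_smul (x : Y') (M : Y.Modules) (r : Y.presheaf.stalk (j x)) (v : St M (j x)) :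
    un1 j x M (r • v) = j.stalkMap x r • un1 j x M v :=
  map_smul ((ModuleCat.extendRestrictScalarsAdj (j.stalkMap x).hom).unit.app (St M (j x))).hom r v

omit [QuasiCompact j] in
/-- Classes agreeing in the pulled back conormal stalk differ by an element of the product of the ideals. -/
theorem sub_mem_mul_of_un1_eq (x : Y') {m m' : St (I f) (f (j x))} {a a' : X.presheaf.stalk (f (j x))}
    (h : Rep f (f (j x)) m a) (h' : Rep f (f (j x)) m' a')
    (e : un1 j x (Omega.conormal f) (cls f (j x) m) = un1 j x (Omega.conormal f) (cls f (j x) m')) :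
    a - a' ∈ (RingHom.ker (j.stalkMap x).hom).comap (f.stalkMap (j x)).hom *
      RingHom.ker (f.stalkMap (j x)).hom := by
  let A := X.presheaf.stalk (f (j x))
  let K : Ideal A := (RingHom.ker (j.stalkMap x).hom).comap (f.stalkMap (j x)).hom
  let Ia : Ideal A := RingHom.ker (f.stalkMap (j x)).hom
  let W := St (Omega.conormal f) (j x)
  have hex : ∀ w : W, ∃ (a : A) (m : St (I f) (f (j x))), Rep f (f (j x)) m a ∧ cls f (j x) m = w := fun w => by
    obtain ⟨U, hx, k, rfl⟩ := exists_conormalSect f (j x) w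
    exact ⟨_, _, ⟨U, hx, k, rfl, rfl⟩, (cls_gm f (j x) hx k).symm⟩
  choose ι μ hι hμ using hex
  let π : A →+* A ⧸ (K * Ia) := Ideal.Quotient.mk _
  have hIK : Ia ≤ K := fun b hb => by
    show (j.stalkMap x).hom ((f.stalkMap (j x)).hom b) = 0
    rw [RingHom.mem_ker.1 hb, map_zero]
  have hwd : ∀ (w : W) (m : St (I f) (f (j x))) (a : A), Rep f (f (j x)) m a → cls f (j x) m = w →
      π (ι w) = π a := by
    intro w m a hma hw
    refine Ideal.Quotient.eq.2 ?_
    have h1 := rep_add f (hι w) (rep_smul f hma (-1))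
    have h2 : cls f (j x) (μ w + (-1 : A) • m) = 0 := by
      rw [cls_add, cls_smul, hμ, hw, map_neg, map_one]
      simp
    have h3 := (cls_eq_zero_iff f (j x) h1).1 h2
    rw [neg_one_mul, ← sub_eq_add_neg] at h3
    rw [sq] at h3
    exact Ideal.mul_mono_left hIK h3
  let ha : A →+* Y'.presheaf.stalk x := (j.stalkMap x).hom.comp (f.stalkMap (j x)).hom
  have hsurj : Function.Surjective ha := (j.stalkMap_surjective x).comp (f.stalkMap_surjective (j x))
  let s : Y'.presheaf.stalk x → A := Function.surjInv hsurj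
  have hs : ∀ t, ha (s t) = t := Function.surjInv_eq hsurj
  have hmul : ∀ (u v : A) (w : W), ha u = ha v → π (u * ι w) = π (v * ι w) := fun u v w huv => by
    refine Ideal.Quotient.eq.2 ?_
    rw [← sub_mul]
    refine Ideal.mul_mem_mul ?_ (RingHom.mem_ker.2 (rep_mem f (hι w)))
    show ha (u - v) = 0
    rw [map_sub, huv, sub_self]
  let _ := (j.stalkMap x).hom.toAlgebra
  let Φ₀ : Y'.presheaf.stalk x →+ W →+ A ⧸ (K * Ia) := AddMonoidHom.mk'
    (fun t => AddMonoidHom.mk' (fun w => π (s t * ι w)) fun w w' => by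
      rw [map_mul, map_mul, map_mul, ← mul_add,
        hwd (w + w') (μ w + μ w') _ (rep_add f (hι w) (hι w')) (by rw [cls_add, hμ, hμ]), map_add])
    fun t t' => AddMonoidHom.ext fun w => by
      show π (s (t + t') * ι w) = π (s t * ι w) + π (s t' * ι w)
      rw [← map_add, ← add_mul]
      exact hmul _ _ w (by rw [map_add, hs, hs, hs])
  let Φ := TensorProduct.liftAddHom (R := Y.presheaf.stalk (j x)) Φ₀ fun r t w => by
    obtain ⟨r', hr'⟩ := f.stalkMap_surjective (j x) r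
    show π (s (r • t) * ι w) = π (s t * ι (r • w))
    rw [map_mul π (s t) (ι (r • w)), hwd (r • w) (r' • μ w) _ (rep_smul f (hι w) r')
      (by rw [cls_smul, hμ]; exact congrArg (· • w) hr'), ← map_mul π (s t), ← mul_assoc]
    refine hmul _ _ w ?_
    rw [map_mul ha (s t) r', hs, hs, mul_comm]
    show (j.stalkMap x).hom r * t = (j.stalkMap x).hom ((f.stalkMap (j x)).hom r') * t
    rw [show (f.stalkMap (j x)).hom r' = r from hr']
  have e' : (1 : Y'.presheaf.stalk x) ⊗ₜ[Y.presheaf.stalk (j x)] cls f (j x) m =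
      (1 : Y'.presheaf.stalk x) ⊗ₜ[Y.presheaf.stalk (j x)] cls f (j x) m' := e
  have h1 : π (s 1 * ι (cls f (j x) m)) = π (s 1 * ι (cls f (j x) m')) := congrArg Φ e'
  rw [hmul (s 1) 1 _ (by rw [hs, map_one]), hmul (s 1) 1 _ (by rw [hs, map_one]), one_mul, one_mul,
    hwd _ m a h rfl, hwd _ m' a' h' rfl] at h1
  exact Ideal.Quotient.eq.1 h1

variable (φ₁ : (Scheme.Modules.pullback j).obj (Omega.conormal f) ⟶ Omega.conormal (j ≫ f))
  (hφ₁ : OmegaSh.IsConormalMap (j ≫ f) f (𝟙 X) j φ₁)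

include hφ₁ in
/-- Injectivity of a split first map modulo any ideal containing the ideal of the composite. -/
theorem mem_mul_ker [QuasiCompact (j ≫ f)] [IsImmersion (j ≫ f)] (x : Y')
    (ρ : St (Omega.conormal (j ≫ f)) x ⟶ St ((Scheme.Modules.pullback j).obj (Omega.conormal f)) x)
    (hρ : ∀ u, ρ.hom ((DerSch.stalkFunctor Y' x).map φ₁ u) = u)
    (𝔪 : Ideal (X.presheaf.stalk (f (j x))))
    (h𝔪 : (RingHom.ker (j.stalkMap x).hom).comap (f.stalkMap (j x)).hom ≤ 𝔪)
    {a : X.presheaf.stalk (f (j x))} (haI : a ∈ RingHom.ker (f.stalkMap (j x)).hom)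
    (haK : a ∈ 𝔪 * (RingHom.ker (j.stalkMap x).hom).comap (f.stalkMap (j x)).hom) :
    a ∈ 𝔪 * RingHom.ker (f.stalkMap (j x)).hom := by
  let Ia := RingHom.ker (f.stalkMap (j x)).hom
  let P := (stalkPullbackIso j x).app (Omega.conormal f)
  have hh : ∀ b, ((j ≫ f).stalkMap x) b = j.stalkMap x (f.stalkMap (j x) b) := fun b => by
    rw [Scheme.Hom.stalkMap_comp]; rfl
  have key : ∀ b ∈ 𝔪 * (RingHom.ker (j.stalkMap x).hom).comap (f.stalkMap (j x)).hom,
      ∃ (m : St (I (j ≫ f)) ((j ≫ f) x)) (b' : X.presheaf.stalk (f (j x))) (μ : St (I f) (f (j x))),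
        Rep (j ≫ f) ((j ≫ f) x) m b ∧ b' ∈ 𝔪 * Ia ∧ Rep f (f (j x)) μ b' ∧
        P.hom (ρ.hom (cls (j ≫ f) x m)) = un1 j x (Omega.conormal f) (cls f (j x) μ) := by
    intro b hb
    induction hb using Submodule.mul_induction_on' with
    | mem_mul_mem b hb c hc =>
      obtain ⟨m, hm⟩ := exists_rep (j ≫ f) (x := x) (show (j ≫ f).stalkMap x c = 0 by rw [hh]; exact hc)
      obtain ⟨v, hv⟩ := Groth.Agent.Synt29.ConormalExact.exists_unit j x (j.stalkMap_surjective x) _
        (ρ.hom (cls (j ≫ f) x m))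
      obtain ⟨U, hx, k, rfl⟩ := exists_conormalSect f (j x) v
      let b : X.presheaf.stalk (f (j x)) := b
      have hk : Rep f (f (j x)) (gm (I f) hx k) (X.presheaf.germ U (f (j x)) hx (OmegaSh.idealSect f.ker U k)) :=
        ⟨U, hx, k, rfl, rfl⟩
      refine ⟨(show X.presheaf.stalk ((j ≫ f) x) from b) • m, _, b • gm (I f) hx k, rep_smul (j ≫ f) hm b,
        Ideal.mul_mem_mul hb (RingHom.mem_ker.2 (rep_mem f hk)), rep_smul f hk b, ?_⟩
      rw [cls_smul, cls_smul, un1_smul]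
      refine (congrArg P.hom (map_smul ρ.hom _ _)).trans ((map_smul P.hom.hom _ _).trans ?_)
      rw [← cls_gm f (j x) hx k, hh]
      exact congrArg (j.stalkMap x (f.stalkMap (j x) b) • ·) hv
    | add b hb c hc ihb ihc =>
      obtain ⟨m₁, b₁, μ₁, hm₁, hb₁, hμ₁, e₁⟩ := ihb
      obtain ⟨m₂, b₂, μ₂, hm₂, hb₂, hμ₂, e₂⟩ := ihc
      refine ⟨m₁ + m₂, b₁ + b₂, μ₁ + μ₂, rep_add (j ≫ f) hm₁ hm₂, add_mem hb₁ hb₂, rep_add f hμ₁ hμ₂, ?_⟩
      rw [cls_add, cls_add]
      refine (congrArg P.hom (map_add ρ.hom _ _)).trans ((map_add P.hom.hom _ _).trans ?_)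
      exact (congrArg₂ (· + ·) e₁ e₂).trans (map_add _ _ _).symm
  obtain ⟨m, b', μ, hm, hb', hμ, e⟩ := key a haK
  obtain ⟨ma, hma⟩ := exists_rep f (x := j x) (RingHom.mem_ker.1 haI)
  obtain ⟨u, m', hm', hu, he⟩ := fst_cls f j φ₁ hφ₁ x hma
  rw [rep_inj (j ≫ f) hm hm', ← he, hρ] at e
  have h1 := sub_mem_mul_of_un1_eq f j x hma hμ (hu.symm.trans e)
  have h2 := add_mem (Ideal.mul_mono_left h𝔪 h1) hb'
  rwa [sub_add_cancel] at h2

end stalk

open Groth.Agent.KFlatLib in
/-- Koszul regularity of the second closed immersion from a locally split conormal sequence. -/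
theorem isRegularImmersion_of_split {X Y Z : Scheme.{u}} (i : Y ⟶ X) [IsClosedImmersion i] (j : Z ⟶ Y)
    [IsClosedImmersion j] (hi : RegImm.IsRegularImmersion .koszul i)
    (hij : RegImm.IsRegularImmersion .koszul (j ≫ i))
    (φ₁ : (Scheme.Modules.pullback j).obj (Omega.conormal i) ⟶ Omega.conormal (j ≫ i))
    (hφ₁ : OmegaSh.IsConormalMap (j ≫ i) i (𝟙 X) j φ₁)
    (hsplit : ∀ z : Z, ∃ (U : Z.Opens) (ρ : (Scheme.Modules.restrictFunctor U.ι).obj (Omega.conormal (j ≫ i)) ⟶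
        (Scheme.Modules.restrictFunctor U.ι).obj ((Scheme.Modules.pullback j).obj (Omega.conormal i))),
        z ∈ U ∧ (Scheme.Modules.restrictFunctor U.ι).map φ₁ ≫ ρ = 𝟙 _) :
    RegImm.IsRegularImmersion .koszul j := by
  refine ⟨inferInstance, fun x => ?_⟩
  obtain ⟨U, ρ, hxU, hρ⟩ := hsplit x
  obtain ⟨D, hD, hxD, -⟩ := exists_isAffineOpen_mem_and_subset (x := i (j x)) (U := ⊤) trivial
  let W := i ⁻¹ᵁ D
  have hW : IsAffineOpen W := hD.preimage i
  have hV : IsAffineOpen (j ⁻¹ᵁ W) := hW.preimage j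
  haveI : IsClosedImmersion (i ∣_ D) := inferInstance
  haveI : IsClosedImmersion ((j ≫ i) ∣_ D) := inferInstance
  haveI : IsClosedImmersion (j ∣_ W) := inferInstance
  obtain ⟨-, hq⟩ := Groth.Agent.Synt29.surjective_app_of_isClosedImmersion_restrict i D hD
  let q : Γ(X, D) →+* Γ(Y, W) := (i.app D).hom
  let 𝔮 := (hW.primeIdealOf ⟨j x, hxD⟩).asIdeal
  have hp : (hD.primeIdealOf ⟨i (j x), hxD⟩).asIdeal = 𝔮.comap q := by
    have hc := congrArg PrimeSpectrum.asIdeal
      (IsAffineOpen.comap_primeIdealOf_appLE (f := i) D hD W hW le_rfl (x := j x) hxD)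
    have he : (i.appLE D W le_rfl).hom = q := by
      simp only [q, W, Scheme.Hom.app_eq_appLE]
    rw [← hc, PrimeSpectrum.comap_asIdeal, he]
  have hJ : RingHom.ker (j.app W).hom ≤ 𝔮 := KRegLib.ker_app_le_primeIdealOf j hW hV x hxD
  have hker : RingHom.ker ((j ≫ i).app D).hom = (RingHom.ker (j.app W).hom).comap q := by
    rw [Scheme.Hom.comp_app]; rfl
  have h1 : KRegLib.KReg (RingHom.ker q) (𝔮.comap q) := by
    rw [← hp]
    exact KRegLib.kReg_of_regImmAt i (j x) (hi.2 _) hD hxD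
  have h2 : KRegLib.KReg ((RingHom.ker (j.app W).hom).comap q) (𝔮.comap q) := by
    rw [← hp, ← hker]
    exact KRegLib.kReg_of_regImmAt (j ≫ i) x (hij.2 x) hD hxD
  let r : St (Omega.conormal (j ≫ i)) x ⟶ St ((Scheme.Modules.pullback j).obj (Omega.conormal i)) x :=
    stalkAt hxU ρ
  have hr : ∀ u, r.hom ((DerSch.stalkFunctor Z x).map φ₁ u) = u := fun u => by
    have e : (DerSch.stalkFunctor Z x).map φ₁ ≫ r = 𝟙 _ := by
      rw [← stalkAt_map hxU φ₁, ← stalkAt_comp, hρ, ← (Scheme.Modules.restrictFunctor U.ι).map_id, stalkAt_map]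
      exact (DerSch.stalkFunctor Z x).map_id _
    exact congr($e u)
  letI : Algebra Γ(X, D) (X.presheaf.stalk (i (j x))) := (X.presheaf.germ D (i (j x)) hxD).hom.toAlgebra
  haveI : IsLocalization.AtPrime (X.presheaf.stalk (i (j x))) (hD.primeIdealOf ⟨i (j x), hxD⟩).asIdeal :=
    hD.isLocalization_stalk ⟨i (j x), hxD⟩
  have eI : RingHom.ker (i.stalkMap (j x)).hom = (RingHom.ker q).map (algebraMap Γ(X, D) _) :=
    ker_stalkMap_eq_map i (j x) ⟨D, hD⟩ hxD inferInstance
  have eK : (RingHom.ker (j.stalkMap x).hom).comap (i.stalkMap (j x)).hom =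
      ((RingHom.ker (j.app W).hom).comap q).map (algebraMap Γ(X, D) (X.presheaf.stalk (i (j x)))) := by
    rw [← hker]
    refine Eq.trans ?_ (ker_stalkMap_eq_map (j ≫ i) x ⟨D, hD⟩ hxD inferInstance)
    rw [Scheme.Hom.stalkMap_comp]; rfl
  have hsp : ∀ b ∈ RingHom.ker q, b ∈ 𝔮.comap q * (RingHom.ker (j.app W).hom).comap q →
      ∃ s, s ∉ 𝔮.comap q ∧ s * b ∈ 𝔮.comap q * RingHom.ker q := by
    intro b hbI hbK
    have h3 := mem_mul_ker i j φ₁ hφ₁ x r hr ((𝔮.comap q).map (algebraMap Γ(X, D) _))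
      (eK.le.trans (Ideal.map_mono (Ideal.comap_mono hJ)))
      (a := algebraMap Γ(X, D) _ b) (eI.ge (Ideal.mem_map_of_mem _ hbI)) (by
        rw [eK, ← Ideal.map_mul]
        exact Ideal.mem_map_of_mem _ hbK)
    rw [eI, ← Ideal.map_mul] at h3
    obtain ⟨s, hs, hmem⟩ := (IsLocalization.algebraMap_mem_map_algebraMap_iff
      (hD.primeIdealOf ⟨i (j x), hxD⟩).asIdeal.primeCompl (X.presheaf.stalk (i (j x))) _ _).1 h3
    exact ⟨s, hp ▸ hs, hmem⟩
  obtain ⟨g, hg, hon⟩ := (kReg_of_split q hq _ 𝔮 hJ h1 h2 hsp).exists_on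
  obtain ⟨hV', hVs⟩ := Groth.Agent.Synt29.surjective_app_of_isClosedImmersion_restrict j W hW
  letI : Algebra Γ(Y, W) Γ(Y, Y.basicOpen g) := (Y.presheaf.map (homOfLE (Y.basicOpen_le g)).op).hom.toAlgebra
  haveI : IsLocalization.Away g Γ(Y, Y.basicOpen g) := hW.isLocalization_basicOpen g
  haveI : Module.Flat Γ(Y, W) Γ(Y, Y.basicOpen g) := IsLocalization.flat _ (Submonoid.powers g)
  obtain ⟨n, fs, hfs, hfI⟩ := hon Γ(Y, Y.basicOpen g) (IsLocalization.Away.algebraMap_isUnit g)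
  have hxg : j x ∈ Y.basicOpen g := by
    rw [← hW.fromSpec_image_basicOpen g]
    exact ⟨hW.primeIdealOf ⟨j x, hxD⟩, hg, hW.fromSpec_primeIdealOf _⟩
  refine ⟨⟨Y.basicOpen g, hW.basicOpen g⟩, hxg, KRegLib.isClosedImmersion_restrict_of_le j (Y.basicOpen_le g),
    List.ofFn fs, KoszulFlatLib.isKoszulRegularSeq_of_isExact hfs, ?_⟩
  refine ((KRegLib.app_basicOpen_props j hW hV' hVs g).2.2.trans hfI).trans ?_
  show _ = Ideal.span {y | y ∈ List.ofFn fs}
  congr 1
  ext y
  simp [List.mem_ofFn]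

end Groth.Agent.RegConormal
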