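import Mathlib
import Groth.Prelude.Def_FlatMod2
import Groth.Agent.RegConormal.Split
import Groth.Agent.KFlatLib.Perfect.BettiStalk
import Groth.Agent.QCoh.LocFree

/-!
# The conormal sheaf of an `H_1`-regular immersion is finite locally free
-/

set_option autoImplicit false
set_option linter.style.haveILetI false
set_option backward.isDefEq.respectTransparency.types false

universe u

open CategoryTheory CategoryTheory.Limits AlgebraicGeometry TopologicalSpace Opposite Module

namespace Groth.Agent.RegConormal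

open Groth.Agent.Synt29.OmegaStalk Groth.Agent.Synt29.ConormalStalk Groth.Agent.KFlatLib Groth.Agent.PPSheaf

section sheaf

variable {X : Scheme.{u}}

/-- Bijectivity on the stalks inside an open gives bijectivity after restriction. -/
theorem isIso_restrict_map {U : Scheme.{u}} (j : U ⟶ X) [IsOpenImmersion j] {M N : X.Modules} (f : M ⟶ N)
    (h : ∀ u : U, Function.Bijective ((DerSch.stalkFunctor X (j.base u)).map f)) :
    IsIso ((Scheme.Modules.restrictFunctor j).map f) := by
  refine Groth.Agent.KFlatLib.isIso_of_stalk _ fun u => ?_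
  have e := Scheme.Modules.restrictStalkNatIso j u
  let F₀ := Scheme.Modules.restrictFunctor j ⋙ Scheme.Modules.toPresheaf U ⋙
    TopCat.Presheaf.stalkFunctor Ab.{u} u
  have h1 : IsIso ((Scheme.Modules.toPresheaf X ⋙ TopCat.Presheaf.stalkFunctor Ab.{u} (j.base u)).map f) :=
    (ConcreteCategory.isIso_iff_bijective _).2 (h u)
  have h2 : IsIso (F₀.map f) :=
    ((MorphismProperty.isomorphisms _).arrow_mk_iso_iff
      (((Functor.mapArrowFunctor _ _).mapIso e).app (Arrow.mk f))).2 h1
  exact (ConcreteCategory.isIso_iff_bijective _).2 (ConcreteCategory.bijective_of_isIso (F₀.map f))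

/-- A map of restrictions which is bijective on all stalks is an isomorphism. -/
theorem isIso_of_stalkAt {W : X.Opens} {M N : X.Modules} (g : M.restrict W.ι ⟶ N.restrict W.ι)
    (h : ∀ (y : X) (hy : y ∈ W), Function.Bijective (stalkAt hy g)) : IsIso g := by
  let R := Scheme.Modules.restrictFunctor W.ι
  haveI : IsIso (R.map ((Scheme.Modules.pushforward W.ι).map g)) := by
    refine isIso_restrict_map W.ι _ fun u => ?_
    have hu : (W.ι.base u : X) ∈ W := u.2
    haveI := isIso_stalk_unitW hu M
    haveI := isIso_stalk_unitW hu N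
    have h1 := stalkAt_spec hu g
    haveI : IsIso (stalkAt hu g) := (ConcreteCategory.isIso_iff_bijective _).2 (h _ hu)
    haveI : IsIso ((DerSch.stalkFunctor X (W.ι.base u)).map (unitW W M) ≫
        (DerSch.stalkFunctor X (W.ι.base u)).map ((Scheme.Modules.pushforward W.ι).map g)) := by
      rw [← Functor.map_comp, ← h1]
      infer_instance
    haveI := IsIso.of_isIso_comp_left ((DerSch.stalkFunctor X (W.ι.base u)).map (unitW W M))
      ((DerSch.stalkFunctor X (W.ι.base u)).map ((Scheme.Modules.pushforward W.ι).map g))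
    exact ConcreteCategory.bijective_of_isIso _
  let adj := Scheme.Modules.restrictAdjunction W.ι
  have hn : R.map ((Scheme.Modules.pushforward W.ι).map g) ≫ adj.counit.app _ = adj.counit.app _ ≫ g :=
    adj.counit.naturality g
  haveI : IsIso (adj.counit.app (M.restrict W.ι) ≫ g) :=
    hn ▸ (inferInstance : IsIso (R.map ((Scheme.Modules.pushforward W.ι).map g) ≫ adj.counit.app _))
  exact IsIso.of_isIso_comp_left (adj.counit.app (M.restrict W.ι)) g

/-- Prescribed sections: maps out of free modules over an open. -/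
theorem exists_of_sections {n : ℕ} (N : X.Modules) (W : X.Opens) (t : Fin n → Γ(N, W)) :
    ∃ g : (FlatMod.freeMod X n).restrict W.ι ⟶ N.restrict W.ι,
      ∀ (y : X) (hy : y ∈ W) i, stalkAt hy g (eGerm y i) = gm N hy (t i) := by
  let t' : Fin n → (DCoh.toP.obj N).obj (op W) := t
  let G := (Scheme.Modules.pushforward W.ι).obj (N.restrict W.ι)
  let hc : ∀ _ : Fin n, Coh.structureModule X ⟶ G := fun i => G.unitHomEquiv.symm
    (PresheafOfModules.sectionsMk
      (fun V => (show G.val.obj V from
        res (DCoh.toP.obj N) (homOfLE (image_le W (W.ι ⁻¹ᵁ V.unop))) (t' i)))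
      (fun {V V'} f => by
        change res (DCoh.toP.obj N) (homOfLE (Scheme.Hom.image_mono _
            (Scheme.Hom.preimage_mono _ f.unop.le)))
            (res (DCoh.toP.obj N) (homOfLE (image_le W (W.ι ⁻¹ᵁ V.unop))) (t' i)) =
          res (DCoh.toP.obj N) (homOfLE (image_le W (W.ι ⁻¹ᵁ V'.unop))) (t' i)
        rw [res_res]
        exact res_congr _ _ _))
  let g : (FlatMod.freeMod X n).restrict W.ι ⟶ N.restrict W.ι :=
    ((Scheme.Modules.restrictAdjunction W.ι).homEquiv _ _).symm (Sigma.desc hc)
  refine ⟨g, fun y hy i => ?_⟩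
  haveI := isIso_stalk_unitW hy N
  have hg : unitW W (FlatMod.freeMod X n) ≫ (Scheme.Modules.pushforward W.ι).map g =
      Sigma.desc hc :=
    ((Scheme.Modules.restrictAdjunction W.ι).homEquiv _ _).apply_symm_apply (Sigma.desc hc)
  apply ((ConcreteCategory.isIso_iff_bijective ((DerSch.stalkFunctor X y).map (unitW W N))).1
    inferInstance).1
  rw [← CategoryTheory.comp_apply, stalkAt_spec, hg, eGerm, ← CategoryTheory.comp_apply,
    ← Functor.map_comp, Sigma.ι_desc]
  refine (DerSch.stalkFunctor_map_germ y (hc i) ⊤ trivial _).trans ?_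
  refine Eq.trans ?_ (DerSch.stalkFunctor_map_germ y (unitW W N) W hy (t' i)).symm
  have hval : (DCoh.toP.map (hc i)).app (op ⊤) (oneSec ⊤) = (show (DCoh.toP.obj G).obj (op ⊤) from
      res (DCoh.toP.obj N) (homOfLE (image_le W (W.ι ⁻¹ᵁ ⊤))) (t' i)) := by
    exact congrArg (fun s => s.val (op ⊤)) (Equiv.apply_symm_apply G.unitHomEquiv
      (PresheafOfModules.sectionsMk _ _))
  change germP (DCoh.toP.obj G) ⊤ trivial ((DCoh.toP.map (hc i)).app (op ⊤) (oneSec ⊤)) =
    germP (DCoh.toP.obj G) W hy ((DCoh.toP.map (unitW W N)).app (op W) (t' i))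
  rw [hval, ← germP_res (P := DCoh.toP.obj G) (homOfLE (le_top : W ≤ ⊤)) hy]
  refine congrArg _ ?_
  change res (DCoh.toP.obj N) (homOfLE (Scheme.Hom.image_mono _
      (Scheme.Hom.preimage_mono _ le_top))) (res (DCoh.toP.obj N) _ (t' i)) =
    res (DCoh.toP.obj N) (homOfLE (Scheme.Hom.image_preimage_le W.ι W)) (t' i)
  rw [res_res]
  exact res_congr _ _ _

end sheaf

/-- The coefficients of a first-order relation of an `H_1`-regular sequence lie in its ideal. -/
theorem coeff_mem_of_h1 {A : Type u} [CommRing A] {c : ℕ} (f : Fin c → A) (h : CAlgX.IsH1Regular f)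
    (a : Fin c → A) (ha : ∑ l, a l * f l ∈ Ideal.span (Set.range f) ^ 2) (l : Fin c) :
    a l ∈ Ideal.span (Set.range f) := by
  let K := Ideal.span (Set.range f)
  rw [sq, ← smul_eq_mul, Submodule.mem_ideal_smul_span_iff_exists_sum] at ha
  obtain ⟨w, hw, hwe⟩ := ha
  have h1 : ∑ l, (a l - w l) * f l = 0 := by
    simp only [sub_mul, Finset.sum_sub_distrib]
    rw [← hwe, Finsupp.sum_fintype _ _ (by simp)]
    simp
  have key : ∀ v ∈ Submodule.span A {v : Fin c → A | ∃ i j : Fin c, v = Pi.single i (f j) - Pi.single j (f i)},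
      ∀ l, v l ∈ K := by
    intro v hv
    induction hv using Submodule.span_induction with
    | mem v hv =>
      obtain ⟨i, j, rfl⟩ := hv
      intro l
      refine sub_mem ?_ ?_ <;> (rw [Pi.single_apply]; split_ifs) <;>
        first | exact zero_mem _ | exact Ideal.subset_span ⟨_, rfl⟩
    | zero => exact fun l => zero_mem _
    | add v v' _ _ hv hv' => exact fun l => add_mem (hv l) (hv' l)
    | smul r v _ hv => exact fun l => Ideal.mul_mem_left _ r (hv l)
  have h2 := add_mem (key _ (h _ h1) l) (hw l)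
  rwa [sub_add_cancel] at h2

variable {Z P : Scheme.{u}} (i : Z ⟶ P) [IsImmersion i] [QuasiCompact i]

/-- Over a chart where the ideal is generated by sections with independent classes the conormal sheaf is free. -/
theorem exists_freeIso_conormal (U : P.affineOpens) (hcl : IsClosedImmersion (i ∣_ U.1)) (rs : List Γ(P, U.1))
    (hker : RingHom.ker (i.app U.1).hom = Ideal.ofList rs)
    (hind : ∀ (y : Z) (hy : i y ∈ U.1) (a : Fin rs.length → P.presheaf.stalk (i y)),
      ∑ l, a l * P.presheaf.germ U.1 (i y) hy (rs.get l) ∈ RingHom.ker (i.stalkMap y).hom ^ 2 →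
        ∀ l, a l ∈ RingHom.ker (i.stalkMap y).hom) :
    ∃ g : (FlatMod.freeMod Z rs.length).restrict (i ⁻¹ᵁ U.1).ι ⟶
        (Omega.conormal i).restrict (i ⁻¹ᵁ U.1).ι, IsIso g := by
  have h0 : ∀ l, i.app U.1 (rs.get l) = 0 := fun l => by
    refine RingHom.mem_ker.1 (hker ▸ (?_ : rs.get l ∈ Ideal.ofList rs))
    exact Ideal.subset_span (List.get_mem rs l)
  choose k hk using fun l => OmegaUniv.exists_idealSect_of_app_eq_zero i U.1 _ (h0 l)
  obtain ⟨g, hg⟩ := exists_of_sections (Omega.conormal i) (i ⁻¹ᵁ U.1)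
    (fun l => OmegaSh.conormalSect i U.1 (k l))
  refine ⟨g, isIso_of_stalkAt g fun y hy => ?_⟩
  let L := (stalkAt hy g).hom
  let f : Fin rs.length → P.presheaf.stalk (i y) := fun l => P.presheaf.germ U.1 (i y) hy (rs.get l)
  let μ : Fin rs.length → St (I i) (i y) := fun l => gm (I i) hy (k l)
  have hμ : ∀ l, Rep i (i y) (μ l) (f l) := fun l => ⟨U.1, hy, k l, rfl, by rw [hk]⟩
  have hK : RingHom.ker (i.stalkMap y).hom = Ideal.span (Set.range f) := by
    rw [ker_stalkMap_eq_map i y U hy hcl, hker,
      show Ideal.ofList rs = Ideal.span (Set.range rs.get) from congrArg Ideal.span (Set.range_list_get rs).symm,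
      Ideal.map_span, ← Set.range_comp]
    rfl
  have hL : ∀ l, L (eBasis y rs.length l) = cls i y (μ l) := fun l => by
    rw [eBasis_apply]
    exact (hg y hy l).trans (cls_gm i y hy (k l))
  let h := i.stalkMap y
  have hsurj := i.stalkMap_surjective y
  have hrepsum : ∀ a : Fin rs.length → P.presheaf.stalk (i y), ∀ s : Finset (Fin rs.length),
      Rep i (i y) (∑ l ∈ s, a l • μ l) (∑ l ∈ s, a l * f l) ∧
        L (∑ l ∈ s, h (a l) • eBasis y rs.length l) = cls i y (∑ l ∈ s, a l • μ l) := by
    intro a s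
    induction s using Finset.induction_on with
    | empty =>
      simp only [Finset.sum_empty, map_zero]
      refine ⟨rep_zero i _, ?_⟩
      exact ((cls_eq_zero_iff i y (rep_zero i (i y))).2 (zero_mem _)).symm
    | insert l s hl ih =>
      rw [Finset.sum_insert hl, Finset.sum_insert hl, Finset.sum_insert hl]
      refine ⟨rep_add i (rep_smul i (hμ l) _) ih.1, ?_⟩
      rw [map_add, map_smul, hL, ih.2, cls_add, cls_smul]
  refine ⟨(injective_iff_map_eq_zero L).2 fun m hm => ?_, fun z => ?_⟩
  · choose a ha using fun l => hsurj ((eBasis y rs.length).repr m l)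
    have hm' : m = ∑ l, h (a l) • eBasis y rs.length l := by
      refine ((eBasis y rs.length).sum_repr m).symm.trans (Finset.sum_congr rfl fun l _ => ?_)
      rw [show h (a l) = _ from ha l]
    rw [hm', (hrepsum a _).2] at hm
    have h1 := (cls_eq_zero_iff i y (hrepsum a _).1).1 hm
    rw [hm']
    refine Finset.sum_eq_zero fun l _ => ?_
    rw [show h (a l) = 0 from hind y hy a h1 l, zero_smul]
  · obtain ⟨V, hx, kk, rfl⟩ := exists_conormalSect i y z
    have hr : Rep i (i y) (gm (I i) hx kk) (P.presheaf.germ V (i y) hx (OmegaSh.idealSect i.ker V kk)) :=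
      ⟨V, hx, kk, rfl, rfl⟩
    obtain ⟨a, ha⟩ := Ideal.mem_span_range_iff_exists_fun.1 (hK.le (RingHom.mem_ker.2 (rep_mem i hr)))
    refine ⟨∑ l, h (a l) • eBasis y rs.length l, ?_⟩
    rw [cls_gm i y hx kk]
    refine ((hrepsum a _).2).trans (congrArg (cls i y) ?_)
    exact rep_inj i ((show ∑ l, a l * f l = _ from ha) ▸ (hrepsum a Finset.univ).1) hr

/-- The conormal sheaf of an `H_1`-regular immersion is finite locally free. -/
theorem isFinLocFree_conormal_h1 (hi : RegImm.IsRegularImmersion RegImm.Kind.h1 i) :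
    FlatMod.IsFinLocFree (Omega.conormal i) := by
  intro z
  obtain ⟨U, hzU, hcl, rs, hrs, hker⟩ := hi.2 z
  obtain ⟨g, hg⟩ := exists_freeIso_conormal i U hcl rs hker fun y hy a ha l => by
    letI : Algebra Γ(P, U.1) (P.presheaf.stalk (i y)) := (P.presheaf.germ U.1 (i y) hy).hom.toAlgebra
    haveI : IsLocalization.AtPrime (P.presheaf.stalk (i y)) (U.2.primeIdealOf ⟨i y, hy⟩).asIdeal :=
      U.2.isLocalization_stalk ⟨i y, hy⟩
    have hf := isH1Regular_localization (B := P.presheaf.stalk (i y))
      (U.2.primeIdealOf ⟨i y, hy⟩).asIdeal.primeCompl rs.get hrs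
    have hK : RingHom.ker (i.stalkMap y).hom =
        Ideal.span (Set.range fun l => algebraMap Γ(P, U.1) (P.presheaf.stalk (i y)) (rs.get l)) := by
      rw [ker_stalkMap_eq_map i y U hy hcl, hker,
        show Ideal.ofList rs = Ideal.span (Set.range rs.get) from congrArg Ideal.span (Set.range_list_get rs).symm,
        Ideal.map_span, ← Set.range_comp]
      rfl
    rw [hK] at ha ⊢
    exact coeff_mem_of_h1 _ hf a ha l
  exact ⟨i ⁻¹ᵁ U.1, rs.length, hzU,
    ⟨(asIso g).symm ≪≫ Groth.Agent.QCoh.freeModRestrict (i ⁻¹ᵁ U.1).ι rs.length⟩⟩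

end Groth.Agent.RegConormal
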