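import Mathlib
import Groth.Agent.RegConormal.Free
import Groth.Agent.S15821
import Groth.Agent.QCoh.LocFree

/-!
# The conormal sheaf of the zero scheme of a regular section
-/

set_option autoImplicit false
set_option linter.style.haveILetI false
set_option backward.isDefEq.respectTransparency.types false

universe u

open CategoryTheory CategoryTheory.Limits AlgebraicGeometry TopologicalSpace Opposite Module

namespace Groth.Agent.RegConormal

open Groth.Agent.Synt29.OmegaStalk Groth.Agent.Synt29.ConormalStalk Groth.Agent.KFlatLib Groth.Agent.PPSheaf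

variable {X Y : Scheme.{u}}

/-- The germs of a basis of sections on an affine open span the stalk. -/
theorem span_germ_basis {E : X.Modules} (hE : Coh.IsQCoh E) {U : X.Opens} (hU : IsAffineOpen U) {x : X} (hx : x ∈ U)
    {n : ℕ} (b : Module.Basis (Fin n) Γ(X, U) (E.val.obj (op U))) (m : St E x) :
    ∃ a : Fin n → X.presheaf.stalk x, ∑ k, a k • gm E hx (b k) = m := by
  letI := Groth.Agent.QCoh.stalkModule E hx
  haveI := Groth.Agent.QCoh.isLocalizedModule_germLin hE hU hx
  obtain ⟨⟨e, s⟩, he⟩ := IsLocalizedModule.surj (hU.primeIdealOf ⟨x, hx⟩).asIdeal.primeCompl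
    (Groth.Agent.QCoh.germLin E hx) m
  let σ : X.presheaf.stalk x := X.presheaf.germ U x hx (s : Γ(X, U))
  have hσ : IsUnit σ :=
    (X.mem_basicOpen _ x hx).1 ((Groth.Agent.QCoh.mem_basicOpen_iff_notMem hU hx _).2 s.2)
  let r : Fin n → Γ(X, U) := fun k => b.repr e k
  refine ⟨fun k => hσ.unit⁻¹.val * X.presheaf.germ U x hx (r k), ?_⟩
  have he' : σ • m = gm E hx e := he
  have hsum : gm E hx e = ∑ k, X.presheaf.germ U x hx (r k) • gm E hx (b k) := by
    refine Eq.trans (congrArg (gm E hx) (b.sum_repr e).symm) ?_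
    refine (map_sum (gm E hx) (fun k => (show Γ(E, U) from b.repr e k • b k)) Finset.univ).trans ?_
    exact Finset.sum_congr rfl fun k _ => gm_smul E hx (r k) (b k)
  simp only [mul_smul, ← Finset.smul_sum, ← hsum, ← he']
  rw [← mul_smul, IsUnit.val_inv_mul, one_smul]

/-- A regular section identifies the restricted bundle with the conormal sheaf of its zero scheme. -/
theorem isIso_pullback_map (n : ℕ) (E : X.Modules) (hE : FlatMod.IsFinLocFreeOfRank n E)
    (s : E ⟶ Coh.structureModule X)
    (hs : ∀ x : X, ∃ U : X.affineOpens, x ∈ U.1 ∧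
      ∃ b : Module.Basis (Fin n) Γ(X, U.1) (E.val.obj (op U.1)),
        @RingTheory.Sequence.IsWeaklyRegular Γ(X, U.1) Γ(X, U.1) _ _ _ (List.ofFn fun k => (s.val.app (op U.1)).hom (b k)))
    (i : Y ⟶ X) [IsClosedImmersion i] (t : E ⟶ ClSub.idealMod i.ker) [Epi t]
    (hts : t ≫ ClSub.idealModι i.ker = s) :
    IsIso ((Scheme.Modules.pullback i).map t) := by
  have hq : Coh.IsQCoh E := Groth.Agent.QCoh.isQCoh_of_isFinLocFree fun x => by
    obtain ⟨U, hx, he⟩ := hE x
    exact ⟨U, n, hx, he⟩
  refine Groth.Agent.KFlatLib.isIso_of_stalk _ fun y => (ConcreteCategory.isIso_iff_bijective _).2 ⟨?_, ?_⟩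
  swap
  · haveI : (Scheme.Modules.pullback i).IsLeftAdjoint := (Scheme.Modules.pullbackPushforwardAdjunction i).isLeftAdjoint
    exact (epi_iff_stalk _).1 inferInstance y
  refine (injective_iff_map_eq_zero ((DerSch.stalkFunctor Y y).map ((Scheme.Modules.pullback i).map t)).hom).2
    fun u hu => ?_
  obtain ⟨U, hxU, b, hreg⟩ := hs (i y)
  obtain ⟨e, he⟩ := Groth.Agent.Synt29.ConormalExact.exists_unit i y (i.stalkMap_surjective y) E u
  obtain ⟨a, rfl⟩ := span_germ_basis hq U.2 hxU b e
  let σ : Fin n → Γ(X, U.1) := fun k => (s.val.app (op U.1)).hom (b k)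
  let f : Fin n → X.presheaf.stalk (i y) := fun k => X.presheaf.germ U.1 (i y) hxU (σ k)
  let T : St E (i y) ⟶ St (I i) (i y) := (DerSch.stalkFunctor X (i y)).map t
  have hrep : ∀ k, Rep i (i y) (T (gm E hxU (b k))) (f k) := fun k => by
    refine ⟨U.1, hxU, t.app U.1 (b k), (DerSch.stalkFunctor_map_germ (i y) t _ hxU _).symm, ?_⟩
    refine congrArg (X.presheaf.germ U.1 (i y) hxU) ?_
    show OmegaSh.fnSect X U.1 ((ClSub.idealModι i.ker).app U.1 (t.app U.1 (b k))) = σ k
    simp only [σ, ← hts]
    rfl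
  have hrepsum : ∀ (c : Fin n → X.presheaf.stalk (i y)) (S : Finset (Fin n)),
      Rep i (i y) (T (∑ k ∈ S, c k • gm E hxU (b k))) (∑ k ∈ S, c k * f k) := by
    intro c S
    induction S using Finset.induction_on with
    | empty =>
      rw [Finset.sum_empty, Finset.sum_empty, map_zero]
      exact rep_zero i _
    | insert k S hk ih =>
      rw [Finset.sum_insert hk, Finset.sum_insert hk, map_add, map_smul]
      exact rep_add i (rep_smul i (hrep k) _) ih
  have hsurj : Function.Surjective T := (epi_iff_stalk t).1 inferInstance (i y)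
  have hK : RingHom.ker (i.stalkMap y).hom = Ideal.span (Set.range f) := by
    refine le_antisymm (fun r hr => ?_) (Ideal.span_le.2 ?_)
    · obtain ⟨m, hm⟩ := exists_rep i (x := y) hr
      obtain ⟨e', he'⟩ := hsurj m
      obtain ⟨c, hc⟩ := span_germ_basis hq U.2 hxU b e'
      rw [Ideal.mem_span_range_iff_exists_fun]
      refine ⟨c, ?_⟩
      have h1 : Rep i (i y) m (∑ k, c k * f k) := by
        rw [← he', ← hc]; exact hrepsum c _
      exact Groth.Agent.Synt29.ConormalSeq.rep_unique i h1 hm
    · rintro _ ⟨k, rfl⟩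
      exact RingHom.mem_ker.2 (rep_mem i (hrep k))
  have hH : CAlgX.IsH1Regular f := by
    letI : Algebra Γ(X, U.1) (X.presheaf.stalk (i y)) := (X.presheaf.germ U.1 (i y) hxU).hom.toAlgebra
    haveI : IsLocalization.AtPrime (X.presheaf.stalk (i y)) (U.2.primeIdealOf ⟨i y, hxU⟩).asIdeal :=
      U.2.isLocalization_stalk ⟨i y, hxU⟩
    have h0 := KRegLib.h1_of_koszul (List.ofFn σ) (Groth.Agent.S15821.result Γ(X, U.1) (List.ofFn σ) hreg).1
    have h1 : CAlgX.IsH1Regular σ := by
      have key : ∀ (m : ℕ) (g : Fin m → Γ(X, U.1)) (hm : m = n) (_ : ∀ k, g k = σ (Fin.cast hm k)),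
          CAlgX.IsH1Regular g → CAlgX.IsH1Regular σ := by
        rintro m g rfl hg hH
        exact (funext fun k => hg k : g = σ) ▸ hH
      exact key _ (List.ofFn σ).get (List.length_ofFn (f := σ)) (fun k => by simp; rfl) h0
    exact isH1Regular_localization (U.2.primeIdealOf ⟨i y, hxU⟩).asIdeal.primeCompl σ h1
  let un : St E (i y) → (ModuleCat.extendScalars (i.stalkMap y).hom).obj (St E (i y)) := fun m =>
    ((ModuleCat.extendRestrictScalarsAdj (i.stalkMap y).hom).unit.app (St E (i y))).hom m
  have hm0 : unit1 i y (T (∑ k, a k • gm E hxU (b k))) = 0 := by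
    let P := (stalkPullbackIso i y).app (I i)
    have h2 : (ModuleCat.extendScalars (i.stalkMap y).hom).map T
        ((stalkPullbackIso i y).hom.app E u) = 0 := by
      have h3 : (stalkPullbackIso i y).hom.app (I i)
          ((DerSch.stalkFunctor Y y).map ((Scheme.Modules.pullback i).map t) u) =
          (ModuleCat.extendScalars (i.stalkMap y).hom).map T ((stalkPullbackIso i y).hom.app E u) :=
        congr($((stalkPullbackIso i y).hom.naturality t) u)
      exact h3.symm.trans ((congrArg _ hu).trans (map_zero _))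
    rw [he] at h2
    exact (congr($((ModuleCat.extendRestrictScalarsAdj (i.stalkMap y).hom).unit.naturality T)
      (∑ k, a k • gm E hxU (b k)))).trans h2
  have hmem := Groth.Agent.Synt29.ConormalSeq.mem_sq_of_unit1_eq_zero i (i.stalkMap_surjective y)
    (hrepsum a Finset.univ) hm0
  rw [hK] at hmem
  refine (ConcreteCategory.bijective_of_isIso ((stalkPullbackIso i y).app E).hom).1 ?_
  refine he.trans (Eq.trans ?_ (map_zero _).symm)
  show un (∑ k, a k • gm E hxU (b k)) = 0
  refine (map_sum ((ModuleCat.extendRestrictScalarsAdj (i.stalkMap y).hom).unit.app (St E (i y))).hom _ _).trans ?_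
  refine Finset.sum_eq_zero fun k _ => ?_
  have h4 : i.stalkMap y (a k) = 0 := RingHom.mem_ker.1 (hK.ge (coeff_mem_of_h1 f hH a hmem k))
  refine (map_smul ((ModuleCat.extendRestrictScalarsAdj (i.stalkMap y).hom).unit.app (St E (i y))).hom _ _).trans ?_
  show i.stalkMap y (a k) • un (gm E hxU (b k)) = 0
  rw [h4, zero_smul]

end Groth.Agent.RegConormal
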