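import Mathlib
import Groth.Prelude.Def_RegImm
import Groth.Agent.RegConormal.Free
import Groth.Agent.LinType.QReg
import Groth.Agent.Synt29.QRDescent

/-!
# `H_1`-regular and quasi-regular sequences modulo part of themselves
-/

set_option autoImplicit false
set_option linter.style.haveILetI false
set_option backward.isDefEq.respectTransparency false

universe u

open Groth.Agent.WiebeLib MvPolynomial

namespace Groth.Agent.RegConormal

theorem range_append {α : Type*} {t r : ℕ} (g : Fin t → α) (F : Fin r → α) :
    Set.range (Fin.append g F) = Set.range g ∪ Set.range F := by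
  ext x
  constructor
  · rintro ⟨i, rfl⟩
    refine Fin.addCases (fun a => Or.inl ⟨a, ?_⟩) (fun b => Or.inr ⟨b, ?_⟩) i
    · rw [Fin.append_left]
    · rw [Fin.append_right]
  · rintro (⟨a, rfl⟩ | ⟨b, rfl⟩)
    · exact ⟨Fin.castAdd r a, Fin.append_left g F a⟩
    · exact ⟨Fin.natAdd t b, Fin.append_right g F b⟩

theorem append_comp {α β : Type*} {t r : ℕ} (φ : α → β) (g : Fin t → α) (F : Fin r → α) (i : Fin (t + r)) :
    φ (Fin.append g F i) = Fin.append (φ ∘ g) (φ ∘ F) i := by
  refine Fin.addCases (fun a => ?_) (fun b => ?_) i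
  · rw [Fin.append_left, Fin.append_left]; rfl
  · rw [Fin.append_right, Fin.append_right]; rfl

/-- `H_1`-regularity is unaffected by an invertible change of generators. -/
theorem isH1Regular_of_matrix {A : Type u} [CommRing A] {n : ℕ} (f f' : Fin n → A) (hf : CAlgX.IsH1Regular f)
    (M : Matrix (Fin n) (Fin n) A) (hM : IsUnit M.det) (h : f' = M.mulVec f) : CAlgX.IsH1Regular f' := by
  classical
  intro a ha
  let S : Set (Fin n → A) := {v | ∃ i j : Fin n, v = Pi.single i (f' j) - Pi.single j (f' i)}
  have hf' : f = M⁻¹.mulVec f' := by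
    rw [h, Matrix.mulVec_mulVec, Matrix.nonsing_inv_mul _ hM, Matrix.one_mulVec]
  let T : (Fin n → A) →ₗ[A] (Fin n → A) := M⁻¹.vecMulLinear
  have key : ∀ v ∈ Submodule.span A {v : Fin n → A | ∃ i j : Fin n, v = Pi.single i (f j) - Pi.single j (f i)},
      T v ∈ Submodule.span A S := by
    intro v hv
    induction hv using Submodule.span_induction with
    | mem v hv =>
      obtain ⟨i, j, rfl⟩ := hv
      have he : T (Pi.single i (f j) - Pi.single j (f i)) = ∑ p, ∑ q, (M⁻¹ i p * M⁻¹ j q) •
          ((Pi.single p (f' q) - Pi.single q (f' p)) : Fin n → A) := by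
        funext k
        have h1 : ∀ l, f l = ∑ q, M⁻¹ l q * f' q := fun l => congrFun hf' l
        simp only [T, map_sub, Matrix.vecMulLinear_apply, Matrix.single_vecMul, Pi.sub_apply, Finset.sum_apply,
          Pi.smul_apply, smul_eq_mul, Matrix.row_apply, mul_sub, Finset.sum_sub_distrib, Pi.single_apply, mul_ite,
          mul_zero]
        have e1 : ∑ p, ∑ q, (if k = p then M⁻¹ i p * M⁻¹ j q * f' q else 0) = f j * M⁻¹ i k := by
          rw [Finset.sum_eq_single k (fun p _ hp => Finset.sum_eq_zero fun q _ => if_neg (Ne.symm hp)) (by simp),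
            h1 j, Finset.sum_mul]
          refine Finset.sum_congr rfl fun q _ => ?_
          rw [if_pos rfl]; ring
        have e2 : ∑ p, ∑ q, (if k = q then M⁻¹ i p * M⁻¹ j q * f' p else 0) = f i * M⁻¹ j k := by
          rw [h1 i, Finset.sum_mul]
          refine Finset.sum_congr rfl fun p _ => ?_
          rw [Finset.sum_eq_single k (fun q _ hq => if_neg (Ne.symm hq)) (by simp), if_pos rfl]
          ring
        rw [e1, e2]
      rw [he]
      exact sum_mem fun p _ => sum_mem fun q _ => Submodule.smul_mem _ _ (Submodule.subset_span ⟨p, q, rfl⟩)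
    | zero => rw [map_zero]; exact zero_mem _
    | add v v' _ _ hv hv' => rw [map_add]; exact add_mem hv hv'
    | smul r v _ hv => rw [map_smul]; exact Submodule.smul_mem _ r hv
  have h2 : ∑ i, (Matrix.vecMul a M) i * f i = 0 := by
    show dotProduct (Matrix.vecMul a M) f = 0
    rw [← Matrix.dotProduct_mulVec, ← h]
    exact ha
  have h3 := key _ (hf _ h2)
  rwa [show T (Matrix.vecMul a M) = a by
    simp only [T, Matrix.vecMulLinear_apply, Matrix.vecMul_vecMul, Matrix.mul_nonsing_inv _ hM,
      Matrix.vecMul_one]] at h3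

/-- `H_1`-regularity modulo part of the sequence. -/
theorem isH1Regular_of_append {A S : Type u} [CommRing A] [CommRing S] (q : A →+* S) (hq : Function.Surjective q)
    {t r : ℕ} (g : Fin t → A) (F : Fin r → A) (hker : RingHom.ker q = Ideal.span (Set.range F))
    (h : CAlgX.IsH1Regular (Fin.append g F)) : CAlgX.IsH1Regular (q ∘ g) := by
  classical
  intro a ha
  choose a' ha' using fun i => hq (a i)
  have h0 : ∑ i, a' i * g i ∈ RingHom.ker q := by
    rw [RingHom.mem_ker, map_sum, ← ha]
    exact Finset.sum_congr rfl fun i _ => by rw [map_mul, ha']; rfl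
  rw [hker] at h0
  obtain ⟨b, hb⟩ := Ideal.mem_span_range_iff_exists_fun.1 h0
  let c : Fin (t + r) → A := Fin.append a' (fun k => -b k)
  have hc : ∑ k, c k * Fin.append g F k = 0 := by
    rw [Fin.sum_univ_add]
    simp only [c, Fin.append_left, Fin.append_right, neg_mul, Finset.sum_neg_distrib, hb, add_neg_cancel]
  have hF : ∀ k, q (F k) = 0 := fun k => by
    rw [← RingHom.mem_ker, hker]; exact Ideal.subset_span ⟨k, rfl⟩
  have hsingle : ∀ (x : Fin (t + r)) (y : A), (fun k => q ((Pi.single x y : Fin (t + r) → A) (Fin.castAdd r k))) =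
      Fin.addCases (motive := fun _ => Fin t → S) (fun x' => Pi.single x' (q y)) (fun _ => 0) x := by
    intro x y
    refine Fin.addCases (fun x' => ?_) (fun x' => ?_) x
    · rw [Fin.addCases_left]
      funext k
      simp only [Pi.single_apply, Fin.castAdd_inj, apply_ite q, map_zero]
    · rw [Fin.addCases_right]
      funext k
      rw [Pi.single_apply, if_neg, map_zero]
      · rfl
      · intro hk
        have := congrArg Fin.val hk
        simp only [Fin.val_castAdd, Fin.val_natAdd] at this
        omega
  have key : ∀ v ∈ Submodule.span A {v : Fin (t + r) → A | ∃ i j : Fin (t + r),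
      v = Pi.single i (Fin.append g F j) - Pi.single j (Fin.append g F i)},
      (fun k => q (v (Fin.castAdd r k))) ∈
        Submodule.span S {v : Fin t → S | ∃ i j : Fin t, v = Pi.single i ((q ∘ g) j) - Pi.single j ((q ∘ g) i)} := by
    intro v hv
    induction hv using Submodule.span_induction with
    | mem v hv =>
      obtain ⟨i, j, rfl⟩ := hv
      have e : (fun k => q ((Pi.single i (Fin.append g F j) - Pi.single j (Fin.append g F i) : Fin (t + r) → A)
          (Fin.castAdd r k))) = (fun k => q ((Pi.single i (Fin.append g F j) : Fin (t + r) → A) (Fin.castAdd r k))) -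
            fun k => q ((Pi.single j (Fin.append g F i) : Fin (t + r) → A) (Fin.castAdd r k)) := by
        funext k
        simp only [Pi.sub_apply, map_sub]
      rw [e, hsingle, hsingle]
      refine Fin.addCases (fun i' => Fin.addCases (fun j' => ?_) (fun j' => ?_) j)
        (fun i' => Fin.addCases (fun j' => ?_) (fun j' => ?_) j) i
      · simp only [Fin.addCases_left, Fin.append_left]
        exact Submodule.subset_span ⟨i', j', rfl⟩
      · simp only [Fin.addCases_left, Fin.addCases_right, Fin.append_left, Fin.append_right, hF, Pi.single_zero,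
          sub_zero]
        exact zero_mem _
      · simp only [Fin.addCases_left, Fin.addCases_right, Fin.append_left, Fin.append_right, hF, Pi.single_zero,
          sub_zero]
        exact zero_mem _
      · simp only [Fin.addCases_right, sub_zero]
        exact zero_mem _
    | zero =>
      simp only [Pi.zero_apply, map_zero]
      exact zero_mem (Submodule.span S _)
    | add v v' _ _ hv hv' =>
      have h' := add_mem hv hv'
      simpa only [Pi.add_apply, map_add, Pi.add_def] using h'
    | smul s v _ hv =>
      have h' := Submodule.smul_mem _ (q s) hv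
      simpa only [Pi.smul_apply, smul_eq_mul, map_mul, Pi.smul_def] using h'
  have h1 := key _ (h c hc)
  simpa only [c, Fin.append_left, ha'] using h1

/-- Quasi-regularity modulo the last element. -/
theorem isQuasiRegular_drop_last {A S : Type u} [CommRing A] [CommRing S] (q : A →+* S) (hq : Function.Surjective q)
    {N : ℕ} (v : Fin (N + 1) → A) (hker : RingHom.ker q = Ideal.span {v (Fin.last N)})
    (h : CAlgX.IsQuasiRegular v) : CAlgX.IsQuasiRegular fun i : Fin N => q (v i.castSucc) := by
  classical
  let e : A := v (Fin.last N)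
  let J := Ideal.span (Set.range v)
  have he : q e = 0 := by rw [← RingHom.mem_ker, hker]; exact Ideal.subset_span rfl
  have hJ : Ideal.span (Set.range fun i : Fin N => q (v i.castSucc)) = J.map q := by
    refine le_antisymm (Ideal.span_le.2 ?_) ?_
    · rintro _ ⟨i, rfl⟩
      exact Ideal.mem_map_of_mem q (Ideal.subset_span ⟨i.castSucc, rfl⟩)
    · rw [Ideal.map_span, Ideal.span_le]
      rintro _ ⟨_, ⟨i, rfl⟩, rfl⟩
      refine Fin.lastCases ?_ (fun i' => Ideal.subset_span ⟨i', rfl⟩) i
      show q e ∈ _
      rw [he]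
      exact zero_mem _
  intro d P hP hev c
  rw [hJ] at hev ⊢
  rw [← Ideal.map_pow] at hev
  let P₀ : MvPolynomial (Fin N) A := ∑ x ∈ P.support, monomial x (Function.surjInv hq (coeff x P))
  have hP₀h : P₀.IsHomogeneous d := IsHomogeneous.sum _ _ _ fun x hx => isHomogeneous_monomial _ (by
    have := hP (MvPolynomial.mem_support_iff.1 hx)
    rw [Finsupp.degree_eq_weight_one]
    exact this)
  have hP₀ : P₀.map q = P := by
    simp only [P₀, map_sum, MvPolynomial.map_monomial, Function.surjInv_eq hq]
    exact P.as_sum.symm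
  let P' : MvPolynomial (Fin (N + 1)) A := rename Fin.castSucc P₀
  have hP'h : P'.IsHomogeneous d := hP₀h.rename_isHomogeneous
  have hev' : q (eval v P') = eval (fun i => q (v i.castSucc)) P := by
    rw [eval_rename, ← hP₀, eval_map]
    exact eval₂_comp _ _ _
  rw [← hev'] at hev
  obtain ⟨w, hw, hwe⟩ := (Ideal.mem_map_iff_of_surjective q hq).1 hev
  have hdiff : eval v P' - w ∈ RingHom.ker q := by rw [RingHom.mem_ker, map_sub, hwe, sub_self]
  rw [hker, Ideal.mem_span_singleton'] at hdiff
  obtain ⟨b, hb⟩ := hdiff
  have hbe : b * e ∈ J ^ d := by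
    rw [hb]
    exact sub_mem (LinType.eval_mem_pow v hP'h) (Ideal.pow_le_pow_right d.le_succ hw)
  suffices hQ : ∃ Q : MvPolynomial (Fin (N + 1)) A, Q.IsHomogeneous d ∧ eval v Q ∈ J ^ (d + 1) ∧
      ∀ c : Fin N →₀ ℕ, coeff (c.mapDomain Fin.castSucc) Q = coeff c P₀ by
    obtain ⟨Q, hQh, hQe, hQc⟩ := hQ
    have := h d Q hQh hQe (c.mapDomain Fin.castSucc)
    rw [hQc] at this
    rw [← hP₀, coeff_map]
    exact Ideal.mem_map_of_mem q this
  have hP'c : ∀ c : Fin N →₀ ℕ, coeff (c.mapDomain Fin.castSucc) P' = coeff c P₀ := fun c =>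
    coeff_rename_mapDomain _ (Fin.castSucc_injective N) _ _
  cases d with
  | zero =>
    refine ⟨P', hP'h, ?_, hP'c⟩
    rw [zero_add, pow_one] at hw ⊢
    have h1 : eval v P' = b * e + w := by rw [hb, sub_add_cancel]
    rw [h1]
    exact add_mem (J.mul_mem_left _ (Ideal.subset_span ⟨_, rfl⟩)) hw
  | succ d =>
    have hbd : ∀ k ≤ d, b ∈ J ^ k := by
      intro k
      induction k with
      | zero => intro _; rw [pow_zero, Ideal.one_eq_top]; exact Submodule.mem_top
      | succ k ih =>
        intro hk
        obtain ⟨C, hC, hCe⟩ := LinType.exists_homogeneous_of_mem_pow v (ih (by omega))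
        have h1 := h (k + 1) (X (Fin.last N) * C) (by
          have := (isHomogeneous_X A (Fin.last N)).mul hC
          rwa [Nat.add_comm 1 k] at this) (by
          rw [map_mul, eval_X, hCe, mul_comm]
          exact Ideal.pow_le_pow_right (by omega : k + 1 + 1 ≤ d + 1) hbe)
        have h2 : ∀ x, coeff x C ∈ J := fun x => by
          have := h1 (Finsupp.single (Fin.last N) 1 + x)
          rwa [coeff_X_mul] at this
        rw [← hCe, eval_eq, pow_succ']
        refine Ideal.sum_mem _ fun x hx => Ideal.mul_mem_mul (h2 x) ?_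
        have hmon := LinType.eval_mem_pow v (isHomogeneous_monomial (1 : A) (show x.degree = k by
          have := hC (MvPolynomial.mem_support_iff.1 hx)
          rw [Finsupp.degree_eq_weight_one]
          exact this))
        rwa [eval_monomial, one_mul, Finsupp.prod] at hmon
    obtain ⟨B, hB, hBe⟩ := LinType.exists_homogeneous_of_mem_pow v (hbd d le_rfl)
    refine ⟨P' - X (Fin.last N) * B, hP'h.sub ?_, ?_, fun c => ?_⟩
    · have := (isHomogeneous_X A (Fin.last N)).mul hB
      rwa [Nat.add_comm 1 d] at this
    · rw [map_sub, map_mul, eval_X, hBe, show eval v P' - v (Fin.last N) * b = w by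
        rw [show v (Fin.last N) * b = b * e from mul_comm _ _, hb, sub_sub_cancel]]
      exact hw
    · rw [coeff_sub, hP'c, mul_comm, coeff_mul_X', if_neg, sub_zero]
      rw [Finsupp.mem_support_iff, not_not]
      exact Finsupp.mapDomain_notin_range _ _ (fun ⟨i, hi⟩ => (Fin.castSucc_lt_last i).ne hi)

/-- Quasi-regularity modulo a final part of the sequence. -/
theorem isQuasiRegular_of_append : ∀ {r : ℕ} {A S : Type u} [CommRing A] [CommRing S] (q : A →+* S)
    (_ : Function.Surjective q) {t : ℕ} (g : Fin t → A) (F : Fin r → A)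
    (_ : RingHom.ker q = Ideal.span (Set.range F)) (_ : CAlgX.IsQuasiRegular (Fin.append g F)),
    CAlgX.IsQuasiRegular (q ∘ g)
  | 0, A, S, _, _, q, hq, t, g, F, hker, h => by
    have hinj : Function.Injective q := by
      rw [RingHom.injective_iff_ker_eq_bot, hker, Set.range_eq_empty, Ideal.span_empty]
    intro d P hP hev c
    have hg : (Fin.append g F : Fin (t + 0) → A) = g := by
      funext i
      exact Fin.append_left g F i
    rw [hg] at h
    obtain ⟨P₀, rfl⟩ := MvPolynomial.map_surjective q hq P
    have hspan : Ideal.span (Set.range (q ∘ g)) = (Ideal.span (Set.range g)).map q := by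
      rw [Ideal.map_span, ← Set.range_comp]
    rw [hspan] at hev ⊢
    rw [coeff_map]
    refine Ideal.mem_map_of_mem q (h d P₀ (fun {x} hx => hP (by
      rw [coeff_map]; exact fun h0 => hx (hinj (h0.trans (map_zero q).symm)))) ?_ c)
    rw [← Ideal.map_pow, Ideal.mem_map_iff_of_surjective q hq] at hev
    obtain ⟨w, hw, hwe⟩ := hev
    have he : eval g P₀ = w := hinj (by rw [hwe, eval_map]; exact (eval₂_comp _ _ _))
    exact he ▸ hw
  | r + 1, A, S, _, _, q, hq, t, g, F, hker, h => by
    let a := F (Fin.last r)
    let q₁ := Ideal.Quotient.mk (Ideal.span {a})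
    have hle : Ideal.span {a} ≤ RingHom.ker q := by
      rw [hker]; exact Ideal.span_mono (Set.singleton_subset_iff.2 ⟨_, rfl⟩)
    let q₂ : A ⧸ Ideal.span {a} →+* S := Ideal.Quotient.lift _ q fun x hx => hle hx
    have hlast : Fin.append g F (Fin.last (t + r)) = a := by
      rw [show Fin.last (t + r) = Fin.natAdd t (Fin.last r) from Fin.ext (by simp), Fin.append_right]
    have h1 := isQuasiRegular_drop_last (N := t + r) q₁ Ideal.Quotient.mk_surjective (Fin.append (m := t) (n := r + 1) g F)
      (by rw [Ideal.mk_ker, hlast]) h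
    have h2 : (fun i : Fin (t + r) => q₁ (Fin.append g F i.castSucc)) =
        Fin.append (q₁ ∘ g) (fun i => q₁ (F i.castSucc)) := by
      funext i
      refine Fin.addCases (fun x => ?_) (fun x => ?_) i
      · rw [show (Fin.castAdd r x).castSucc = Fin.castAdd (r + 1) x from rfl, Fin.append_left, Fin.append_left]
        rfl
      · rw [show (Fin.natAdd t x).castSucc = Fin.natAdd t x.castSucc from rfl, Fin.append_right, Fin.append_right]
    rw [h2] at h1
    refine isQuasiRegular_of_append q₂ (Ideal.Quotient.lift_surjective_of_surjective _ _ hq) (q₁ ∘ g)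
      (fun i => q₁ (F i.castSucc)) ?_ h1
    rw [Ideal.ker_quotient_lift, hker, Ideal.map_span]
    refine le_antisymm (Ideal.span_le.2 ?_) (Ideal.span_mono ?_)
    · rintro _ ⟨_, ⟨i, rfl⟩, rfl⟩
      refine Fin.lastCases ?_ (fun i' => Ideal.subset_span ⟨i', rfl⟩) i
      show q₁ a ∈ _
      rw [show q₁ a = 0 from Ideal.Quotient.eq_zero_iff_mem.2 (Ideal.mem_span_singleton_self a)]
      exact zero_mem _
    · rintro _ ⟨i, rfl⟩
      exact ⟨F i.castSucc, ⟨i.castSucc, rfl⟩, rfl⟩

end Groth.Agent.RegConormal
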