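import Mathlib
import Groth.Agent.RegConormal.Kinds

/-!
# Completing minimal generators of a subideal
-/

set_option autoImplicit false
set_option linter.style.haveILetI false
set_option backward.isDefEq.respectTransparency false

universe u

namespace Groth.Agent.RegConormal

/-- Exchange: members of a generating sequence without relations outside the prime may be replaced, near the
prime, by elements independent modulo the prime, completed from any given family of generators. -/
theorem exists_exchange {T : Type u} [CommRing T] (𝔓 : Ideal T) [𝔓.IsPrime] {n : ℕ} (m : Fin n → T)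
    (hrel0 : ∀ u : Fin n → T, ∑ i, u i * m i = 0 → ∀ i, u i ∈ 𝔓) (hm𝔓 : ∀ i, m i ∈ 𝔓) {r : ℕ} (F : Fin r → T) {ι : Type u} (a : ι → T)
    (hspan : Ideal.span (Set.range F ∪ Set.range a) = Ideal.span (Set.range m))
    (hind : ∀ c : Fin r → T, ∑ i, c i * F i ∈ 𝔓 * Ideal.span (Set.range m) → ∀ i, c i ∈ 𝔓) :
    ∃ d : T, d ∉ 𝔓 ∧ ∃ (t : ℕ) (e : Fin t → ι) (hn : t + r = n), ∀ (T' : Type u) [CommRing T'] [Algebra T T'],
      IsUnit (algebraMap T T' d) → ∃ M : Matrix (Fin (t + r)) (Fin (t + r)) T', IsUnit M.det ∧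
        Fin.append (fun j => algebraMap T T' (a (e j))) (fun i => algebraMap T T' (F i)) =
          M.mulVec fun j => algebraMap T T' (m (Fin.cast hn j)) := by
  classical
  let K := 𝔓.ResidueField
  let π : (Fin n → T) →ₗ[T] (Fin n → K) := LinearMap.compLeft (Algebra.linearMap T K) (Fin n)
  let φ : (Fin n → T) →ₗ[T] T := Fintype.linearCombination T m
  have hφ : ∀ c, φ c = ∑ i, c i * m i := fun c => by simp [φ, Fintype.linearCombination_apply]
  have hKm : Ideal.span (Set.range m) ≤ 𝔓 := Ideal.span_le.2 fun _ ⟨i, hi⟩ => hi ▸ hm𝔓 i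
  have hrel : ∀ c, φ c = 0 → π c = 0 := fun c hc => funext fun j =>
    Ideal.algebraMap_residueField_eq_zero.2 (hrel0 c (hφ c ▸ hc) j)
  have hFm : ∀ i, F i ∈ Ideal.span (Set.range m) := fun i => hspan ▸ Ideal.subset_span (Or.inl ⟨i, rfl⟩)
  have ham : ∀ x, a x ∈ Ideal.span (Set.range m) := fun x => hspan ▸ Ideal.subset_span (Or.inr ⟨x, rfl⟩)
  choose cF hcF using fun i => (Ideal.mem_span_range_iff_exists_fun).1 (hFm i)
  choose cA hcA using fun x => (Ideal.mem_span_range_iff_exists_fun).1 (ham x)
  let v : Fin r → (Fin n → K) := fun i => π (cF i)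
  let w : ι → (Fin n → K) := fun x => π (cA x)
  -- independence
  have hv : LinearIndependent K v := by
    rw [Fintype.linearIndependent_iff]
    intro b hb
    obtain ⟨s, hs⟩ := IsLocalization.exist_integer_multiples_of_finite (nonZeroDivisors (T ⧸ 𝔓)) b
    choose b' hb' using hs
    choose c hc using fun i => Ideal.Quotient.mk_surjective (I := 𝔓) (b' i)
    have hcK : ∀ i, algebraMap T K (c i) = algebraMap (T ⧸ 𝔓) K s * b i := fun i => by
      rw [IsScalarTower.algebraMap_apply T (T ⧸ 𝔓) K, Ideal.Quotient.algebraMap_eq, hc, hb', Algebra.smul_def]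
    have hz : ∀ j, ∑ i, c i * cF i j ∈ 𝔓 := fun j => by
      rw [← Ideal.algebraMap_residueField_eq_zero, map_sum]
      have := congrFun hb j
      rw [Finset.sum_apply] at this
      calc ∑ i, algebraMap T K (c i * cF i j) = algebraMap (T ⧸ 𝔓) K s * ∑ i, b i * algebraMap T K (cF i j) := by
            rw [Finset.mul_sum]
            exact Finset.sum_congr rfl fun i _ => by rw [map_mul, hcK, mul_assoc]
        _ = 0 := mul_eq_zero_of_right _ this
    have hc𝔓 : ∀ i, c i ∈ 𝔓 := hind c (by
      have h1 : ∑ i, c i * F i = ∑ j, (∑ i, c i * cF i j) * m j := by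
        simp only [← hcF, Finset.mul_sum, Finset.sum_mul, mul_assoc]
        exact Finset.sum_comm
      rw [h1]
      exact sum_mem fun j _ => Ideal.mul_mem_mul (hz j) (Ideal.subset_span ⟨j, rfl⟩))
    intro i
    have h1 := hcK i
    rw [Ideal.algebraMap_residueField_eq_zero.2 (hc𝔓 i)] at h1
    refine (mul_eq_zero.1 h1.symm).resolve_left ?_
    exact (IsLocalization.map_units K s).ne_zero
  -- spanning
  have hgen : ∀ j, (Pi.single j 1 : Fin n → K) ∈ Submodule.span K (Set.range v ∪ Set.range w) := by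
    intro j
    let W := Submodule.span K (Set.range v ∪ Set.range w)
    let S : Submodule T T := ((W.restrictScalars T).comap π).map φ
    have hS : Ideal.span (Set.range m) ≤ S := by
      rw [← hspan]
      refine Submodule.span_le.2 ?_
      rintro _ (⟨i, rfl⟩ | ⟨x, rfl⟩)
      · exact ⟨cF i, Submodule.subset_span (Or.inl ⟨i, rfl⟩), (hφ _).trans (hcF i)⟩
      · exact ⟨cA x, Submodule.subset_span (Or.inr ⟨x, rfl⟩), (hφ _).trans (hcA x)⟩
    obtain ⟨c, hc, hcm⟩ := hS (Ideal.subset_span ⟨j, rfl⟩ : m j ∈ Ideal.span (Set.range m))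
    have h1 : π (c - Pi.single j 1) = 0 := hrel _ (by
      rw [map_sub, hcm, hφ]
      simp [Pi.single_apply])
    rw [map_sub, sub_eq_zero] at h1
    have h2 : π (Pi.single j 1) = (Pi.single j 1 : Fin n → K) := funext fun i => by
      show algebraMap T K _ = _
      simp [Pi.single_apply, apply_ite (algebraMap T K)]
    rw [← h2, ← h1]
    exact hc
  let W0 := Submodule.span K (Set.range v)
  obtain ⟨κ, e₀, -, he₀, hli⟩ := exists_linearIndependent' K (W0.mkQ ∘ w)
  haveI : Finite κ := hli.finite
  let t := Nat.card κ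
  let e : Fin t → ι := e₀ ∘ (Finite.equivFin κ).symm
  have hli' : LinearIndependent K (W0.mkQ ∘ w ∘ e) := hli.comp _ (Finite.equivFin κ).symm.injective
  have hsp' : Submodule.span K (Set.range (W0.mkQ ∘ w ∘ e)) = ⊤ := by
    rw [show W0.mkQ ∘ w ∘ e = (W0.mkQ ∘ w ∘ e₀) ∘ (Finite.equivFin κ).symm from rfl,
      Set.range_comp (W0.mkQ ∘ w ∘ e₀), (Finite.equivFin κ).symm.surjective.range_eq, Set.image_univ]
    refine he₀.trans (top_le_iff.1 fun y _ => ?_)
    obtain ⟨y, rfl⟩ := W0.mkQ_surjective y
    have hy : y ∈ Submodule.span K (Set.range v ∪ Set.range w) := by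
      rw [pi_eq_sum_univ y]
      refine sum_mem fun i _ => Submodule.smul_mem _ _ ?_
      rw [show (fun j => if i = j then (1 : K) else 0) = Pi.single i 1 from
        funext fun j => by simp [Pi.single_apply, eq_comm]]
      exact hgen i
    refine (show Submodule.span K (Set.range v ∪ Set.range w) ≤
      (Submodule.span K (Set.range (W0.mkQ ∘ w))).comap W0.mkQ from Submodule.span_le.2 ?_) hy
    rintro _ (⟨i, rfl⟩ | ⟨x, rfl⟩)
    · show W0.mkQ (v i) ∈ Submodule.span K (Set.range (W0.mkQ ∘ w))
      rw [show W0.mkQ (v i) = 0 from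
        (Submodule.Quotient.mk_eq_zero W0).2 (Submodule.subset_span (Set.mem_range_self i))]
      exact zero_mem _
    · exact Submodule.subset_span ⟨x, rfl⟩
  have hn : t + r = n := by
    have h1 := W0.finrank_quotient_add_finrank
    rw [finrank_span_eq_card hv, Module.finrank_fintype_fun_eq_card, Fintype.card_fin, Fintype.card_fin,
      show Module.finrank K ((Fin n → K) ⧸ W0) = t by
        rw [← finrank_top, ← hsp', finrank_span_eq_card hli', Fintype.card_fin]] at h1
    omega
  subst hn
  let V : Fin (t + r) → (Fin (t + r) → K) := Fin.append (w ∘ e) v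
  have hVsp : ⊤ ≤ Submodule.span K (Set.range V) := by
    intro y _
    rw [RegConormal.range_append, Submodule.span_union]
    have hy : W0.mkQ y ∈ Submodule.span K (Set.range (W0.mkQ ∘ w ∘ e)) := hsp' ▸ trivial
    rw [Set.range_comp, Submodule.span_image] at hy
    obtain ⟨z, hz, hzy⟩ := hy
    exact Submodule.mem_sup.2 ⟨z, hz, y - z, (Submodule.Quotient.eq W0).1 hzy.symm, add_sub_cancel z y⟩
  let M : Matrix (Fin (t + r)) (Fin (t + r)) T := Matrix.of (Fin.append (cA ∘ e) cF)
  have hdet : M.det ∉ 𝔓 := by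
    have hVli : LinearIndependent K V :=
      linearIndependent_of_top_le_span_of_card_eq_finrank hVsp (by simp)
    have hMV : M.map (algebraMap T K) = Matrix.of V := by
      ext i j
      show π (Fin.append (cA ∘ e) cF i) j = V i j
      rw [RegConormal.append_comp (fun c => π c)]
      rfl
    have hu : IsUnit (Matrix.of V).det :=
      (Matrix.isUnit_iff_isUnit_det _).1 (Matrix.linearIndependent_rows_iff_isUnit.1 hVli)
    rw [← hMV, ← RingHom.mapMatrix_apply, ← RingHom.map_det] at hu
    exact fun h => hu.ne_zero (Ideal.algebraMap_residueField_eq_zero.2 h)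
  refine ⟨M.det, hdet, t, e, rfl, fun T' _ _ hu => ⟨M.map (algebraMap T T'), ?_, ?_⟩⟩
  · rw [show (M.map (algebraMap T T')).det = algebraMap T T' M.det by rw [RingHom.map_det]; rfl]
    exact hu
  · funext i
    show _ = ∑ j, algebraMap T T' (Fin.append (cA ∘ e) cF i j) * algebraMap T T' (m j)
    simp only [← map_mul, ← map_sum]
    rw [RegConormal.append_comp (fun c : Fin (t + r) → T => algebraMap T T' (∑ j, c j * m j))]
    simp only [Function.comp_def, hcF, hcA]

/-- A finitely generated ideal has generators near a prime which are independent modulo it. -/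
theorem exists_minimal_gens {P : Type u} [CommRing P] (I 𝔭 : Ideal P) [𝔭.IsPrime] (hI : I.FG) :
    ∃ (s : P) (r : ℕ) (F : Fin r → P), s ∉ 𝔭 ∧ (∀ i, F i ∈ I) ∧ (∀ x ∈ I, s * x ∈ Ideal.span (Set.range F)) ∧
      ∀ c : Fin r → P, ∑ i, c i * F i ∈ 𝔭 * I → ∀ i, c i ∈ 𝔭 := by
  classical
  let Good : ℕ → Prop := fun r => ∃ (s : P) (F : Fin r → P), s ∉ 𝔭 ∧ (∀ i, F i ∈ I) ∧
    ∀ x ∈ I, s * x ∈ Ideal.span (Set.range F)
  have hex : ∃ r, Good r := by
    obtain ⟨n, F, hF⟩ := (Submodule.fg_iff_exists_fin_generating_family).1 hI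
    refine ⟨n, 1, F, fun h => Ideal.IsPrime.ne_top' ((Ideal.eq_top_iff_one 𝔭).2 h), fun i => ?_, fun x hx => ?_⟩
    · rw [← hF]; exact Submodule.subset_span ⟨i, rfl⟩
    · rw [one_mul]; exact hF.ge hx
  obtain ⟨s, F, hs, hFI, hsp⟩ := Nat.find_spec hex
  refine ⟨s, _, F, hs, hFI, hsp, fun c hc k => ?_⟩
  by_contra hck
  have h1 : s * ∑ i, c i * F i ∈ 𝔭 * Ideal.span (Set.range F) := by
    refine Submodule.mul_induction_on hc (fun m hm x hx => ?_) fun a b ha hb => ?_
    · rw [show s * (m * x) = m * (s * x) from mul_left_comm _ _ _]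
      exact Ideal.mul_mem_mul hm (hsp x hx)
    · rw [mul_add]; exact add_mem ha hb
  rw [← smul_eq_mul 𝔭, Ideal.span, Submodule.mem_ideal_smul_span_iff_exists_sum 𝔭 F] at h1
  obtain ⟨w, hw, hwe⟩ := h1
  rw [Finsupp.sum_fintype _ _ (by simp)] at hwe
  let u := s * c k - w k
  have hu : u ∉ 𝔭 := fun h => by
    have := add_mem h (hw k)
    rw [sub_add_cancel] at this
    exact ((Ideal.IsPrime.mem_or_mem inferInstance this).elim hs hck)
  obtain ⟨r, hr⟩ : ∃ r, Nat.find hex = r + 1 := ⟨Nat.find hex - 1, by have := k.2; omega⟩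
  let G : Fin r → P := fun i => F (Fin.cast hr.symm ((Fin.cast hr k).succAbove i))
  have huk : u * F k ∈ Ideal.span (Set.range G) := by
    have h2 : ∑ i, (s * c i - w i) * F i = 0 := by
      simp only [sub_mul, Finset.sum_sub_distrib, mul_assoc, ← Finset.mul_sum]
      rw [sub_eq_zero, ← hwe]
      simp
    rw [← (finCongr hr.symm).sum_comp, Fin.sum_univ_succAbove _ (Fin.cast hr k)] at h2
    simp only [finCongr_apply, Fin.cast_cast, Fin.cast_eq_self] at h2
    rw [show u * F k = -∑ i : Fin r, (s * c (Fin.cast hr.symm ((Fin.cast hr k).succAbove i)) -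
      w (Fin.cast hr.symm ((Fin.cast hr k).succAbove i))) * G i from eq_neg_of_add_eq_zero_left h2]
    exact neg_mem (sum_mem fun i _ => Ideal.mul_mem_left _ _ (Ideal.subset_span ⟨i, rfl⟩))
  refine Nat.find_min hex (show r < Nat.find hex by omega) ⟨u * s, G, fun h => ?_, fun i => hFI _, fun x hx => ?_⟩
  · exact (Ideal.IsPrime.mem_or_mem inferInstance h).elim hu hs
  · obtain ⟨a, ha⟩ := Ideal.mem_span_range_iff_exists_fun.1 (hsp x hx)
    rw [mul_assoc, ← ha, Finset.mul_sum]
    refine sum_mem fun i _ => ?_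
    by_cases hi : Fin.cast hr i = Fin.cast hr k
    · rw [Fin.cast_injective hr hi, show u * (a k * F k) = a k * (u * F k) from mul_left_comm _ _ _]
      exact Ideal.mul_mem_left _ _ huk
    · obtain ⟨l, hl⟩ := Fin.exists_succAbove_eq hi
      refine Ideal.mul_mem_left _ _ (Ideal.mul_mem_left _ _ (Ideal.subset_span ⟨l, ?_⟩))
      simp only [G, hl, Fin.cast_cast, Fin.cast_eq_self]

/-- The common core: near the prime, minimal generators of the kernel are completed to generators of the bigger
ideal obtained from the given ones by an invertible change. -/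
theorem exists_seq_of_split {P N : Type u} [CommRing P] [CommRing N] (q : P →+* N) (hq : Function.Surjective q)
    (hfg : (RingHom.ker q).FG) (J : Ideal N) (𝔑 : Ideal N) [𝔑.IsPrime] (hJ : J ≤ 𝔑) {n : ℕ} (m : Fin n → P)
    (hm : Ideal.span (Set.range m) = J.comap q)
    (hrel : ∀ (T : Type u) [CommRing T] [Algebra P T] (S : Submonoid P) [IsLocalization S T] (u : Fin n → T),
      ∑ i, u i * algebraMap P T (m i) = 0 → ∀ i, u i ∈ (J.comap q).map (algebraMap P T))
    (hsplit : ∀ b ∈ RingHom.ker q, b ∈ 𝔑.comap q * J.comap q →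
      ∃ s, s ∉ 𝔑.comap q ∧ s * b ∈ 𝔑.comap q * RingHom.ker q) :
    ∃ (G : P) (_ : G ∉ 𝔑.comap q) (q' : Localization.Away G →+* Localization.Away (q G)) (t r : ℕ)
      (g : Fin t → Localization.Away G) (F : Fin r → Localization.Away G) (hn : t + r = n)
      (M : Matrix (Fin (t + r)) (Fin (t + r)) (Localization.Away G)),
      IsUnit M.det ∧ Fin.append g F = M.mulVec (fun j => algebraMap P (Localization.Away G) (m (Fin.cast hn j))) ∧
        Function.Surjective q' ∧ RingHom.ker q' = Ideal.span (Set.range F) ∧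
        Ideal.span (Set.range (q' ∘ g)) = J.map (algebraMap N (Localization.Away (q G))) := by
  classical
  let 𝔭 := 𝔑.comap q
  haveI : 𝔭.IsPrime := Ideal.comap_isPrime _ _
  obtain ⟨s, r, F, hs, hFI, hsp, hmin⟩ := exists_minimal_gens (RingHom.ker q) 𝔭 hfg
  let K₀ := J.comap q
  let T := Localization.Away s
  obtain ⟨h𝔓, h𝔓c⟩ := KRegLib.exists_prime_of_away T 𝔭 hs
  haveI := h𝔓
  let 𝔓 := 𝔭.map (algebraMap P T)
  have hK𝔭 : K₀ ≤ 𝔭 := Ideal.comap_mono hJ
  have hIK : RingHom.ker q ≤ K₀ := fun x hx => by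
    show q x ∈ J
    rw [RingHom.mem_ker.1 hx]; exact zero_mem _
  have hmK : ∀ i, m i ∈ K₀ := fun i => hm.le (Ideal.subset_span ⟨i, rfl⟩)
  let mT : Fin n → T := fun i => algebraMap P T (m i)
  let FT : Fin r → T := fun i => algebraMap P T (F i)
  have hmT : Ideal.span (Set.range mT) = K₀.map (algebraMap P T) := by
    show _ = Ideal.map (algebraMap P T) (J.comap q)
    rw [← hm, Ideal.map_span, ← Set.range_comp]; rfl
  have hrel0 : ∀ u : Fin n → T, ∑ i, u i * mT i = 0 → ∀ i, u i ∈ 𝔓 := fun u hu i =>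
    Ideal.map_mono hK𝔭 (hrel T (Submonoid.powers s) u hu i)
  let a : K₀ → T := fun x => algebraMap P T x.1
  have hspan : Ideal.span (Set.range FT ∪ Set.range a) = Ideal.span (Set.range mT) := by
    have ha : Ideal.span (Set.range a) = K₀.map (algebraMap P T) := by
      show _ = Ideal.span (algebraMap P T '' K₀)
      rw [show Set.range a = algebraMap P T '' K₀ from (Set.image_eq_range (algebraMap P T) (K₀ : Set P)).symm]
    rw [Ideal.span_union, ha, hmT]
    refine sup_eq_right.2 (Ideal.span_le.2 (Set.range_subset_iff.2 fun i => ?_))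
    exact Ideal.mem_map_of_mem _ (hIK (hFI i))
  have hind : ∀ c : Fin r → T, ∑ i, c i * FT i ∈ 𝔓 * Ideal.span (Set.range mT) → ∀ i, c i ∈ 𝔓 := by
    intro c hc i
    obtain ⟨b, hb⟩ := IsLocalization.exist_integer_multiples_of_finite (Submonoid.powers s) c
    choose c' hc' using hb
    have h1 : algebraMap P T (∑ i, c' i * F i) ∈ (𝔭 * K₀).map (algebraMap P T) := by
      rw [Ideal.map_mul, ← hmT, map_sum, show ∑ i, algebraMap P T (c' i * F i) =
        algebraMap P T (b : P) * ∑ i, c i * FT i by
        rw [Finset.mul_sum]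
        exact Finset.sum_congr rfl fun l _ => by rw [map_mul, hc', Algebra.smul_def, mul_assoc]]
      exact Ideal.mul_mem_left _ _ hc
    obtain ⟨t, ht, htm⟩ := (IsLocalization.algebraMap_mem_map_algebraMap_iff (Submonoid.powers s) T _ _).1 h1
    obtain ⟨s', hs', hmem⟩ := hsplit (t * ∑ i, c' i * F i)
      (Ideal.mul_mem_left _ _ (sum_mem fun l _ => Ideal.mul_mem_left _ _ (hFI l))) htm
    have h2 := hmin (fun l => s' * t * c' l) (by
      simpa only [Finset.mul_sum, mul_assoc] using hmem) i
    have ht' : t ∉ 𝔭 := by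
      obtain ⟨k, rfl⟩ := ht
      exact fun hk => hs (Ideal.IsPrime.mem_of_pow_mem inferInstance k hk)
    have h3 : c' i ∈ 𝔭 := by
      rcases Ideal.IsPrime.mem_or_mem inferInstance h2 with h | h
      · exact ((Ideal.IsPrime.mem_or_mem inferInstance h).elim hs' ht').elim
      · exact h
    have h4 : algebraMap P T (c' i) ∈ 𝔓 := Ideal.mem_map_of_mem _ h3
    rwa [hc', Algebra.smul_def, Ideal.unit_mul_mem_iff_mem _ (IsLocalization.map_units T b)] at h4
  have hm𝔓 : ∀ i, mT i ∈ 𝔓 := fun i => Ideal.mem_map_of_mem _ (hK𝔭 (hmK i))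
  obtain ⟨d, hd, t, e, hn, hex⟩ := exists_exchange 𝔓 mT hrel0 hm𝔓 FT a hspan hind
  obtain ⟨G, hG, hGT⟩ := KRegLib.exists_away_away T 𝔭 hs d hd (Localization.Away d)
  haveI := hGT
  let T' := Localization.Away G
  let ε : Localization.Away d ≃ₐ[P] T' := IsLocalization.algEquiv (Submonoid.powers G) _ _
  letI : Algebra T T' := (ε.toAlgHom.toRingHom.comp (algebraMap T (Localization.Away d))).toAlgebra
  haveI : IsScalarTower P T T' := IsScalarTower.of_algebraMap_eq fun x => by
    show _ = ε (algebraMap T (Localization.Away d) (algebraMap P T x))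
    rw [← IsScalarTower.algebraMap_apply P T (Localization.Away d), ε.commutes]
  obtain ⟨M, hM, hMe⟩ := hex T' ((IsLocalization.Away.algebraMap_isUnit (S := Localization.Away d) d).map ε.toAlgHom.toRingHom)
  let q' : T' →+* Localization.Away (q G) := IsLocalization.Away.map T' _ q G
  have hq'c : q'.comp (algebraMap P T') = (algebraMap N (Localization.Away (q G))).comp q := IsLocalization.map_comp _
  let F' : Fin r → T' := fun i => algebraMap T T' (FT i)
  let g' : Fin t → T' := fun j => algebraMap T T' (a (e j))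
  have hmap : (RingHom.ker q).map (algebraMap P T') = Ideal.span (Set.range F') := by
    have hs' : IsUnit (algebraMap P T' s) := by
      rw [IsScalarTower.algebraMap_apply P T T']
      exact (IsLocalization.Away.algebraMap_isUnit (S := T) s).map _
    refine le_antisymm (Ideal.map_le_iff_le_comap.2 fun x hx => ?_) (Ideal.span_le.2 (Set.range_subset_iff.2 fun i => ?_))
    · rw [Ideal.mem_comap, ← Ideal.unit_mul_mem_iff_mem _ hs', ← map_mul,
        show Ideal.span (Set.range F') = (Ideal.span (Set.range F)).map (algebraMap P T') by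
          rw [Ideal.map_span, ← Set.range_comp]
          exact congrArg _ (congrArg Set.range (funext fun i => (IsScalarTower.algebraMap_apply P T T' (F i)).symm))]
      exact Ideal.mem_map_of_mem _ (hsp x hx)
    · show algebraMap T T' (algebraMap P T (F i)) ∈ _
      rw [← IsScalarTower.algebraMap_apply P T T']
      exact Ideal.mem_map_of_mem _ (hFI i)
  have hk' : RingHom.ker q' = Ideal.span (Set.range F') :=
    (IsLocalization.ker_map (Localization.Away (q G)) q (Submonoid.map_powers q G)).trans hmap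
  let mT' : Fin (t + r) → T' := fun j => algebraMap P T' (m (Fin.cast hn j))
  have hMe' : Fin.append g' F' = M.mulVec mT' := by
    rw [show mT' = fun j => algebraMap T T' (mT (Fin.cast hn j)) from
      funext fun j => IsScalarTower.algebraMap_apply P T T' _]
    exact hMe
  refine ⟨G, hG, q', t, r, g', F', hn, M, hM, hMe', KRegLib.away_map_surjective hq G, hk', ?_⟩
  have hK' : Ideal.span (Set.range (Fin.append g' F')) = K₀.map (algebraMap P T') := by
    show _ = Ideal.map (algebraMap P T') (J.comap q)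
    rw [← hm, Ideal.map_span, ← Set.range_comp, hMe']
    have hr : Set.range mT' = Set.range (algebraMap P T' ∘ m) :=
      ((finCongr hn).surjective.range_comp (algebraMap P T' ∘ m))
    rw [← hr]
    have hmv : ∀ (v : Fin (t + r) → T') (A : Matrix (Fin (t + r)) (Fin (t + r)) T') (i : Fin (t + r)),
        A.mulVec v i ∈ Ideal.span (Set.range v) := fun v A i =>
      (show ∑ j, A i j * v j ∈ Ideal.span (Set.range v) from
        sum_mem fun j _ => Ideal.mul_mem_left _ _ (Ideal.subset_span (Set.mem_range_self j)))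
    refine le_antisymm (Ideal.span_le.2 ?_) (Ideal.span_le.2 ?_)
    · rintro _ ⟨i, rfl⟩
      exact hmv mT' M i
    · rintro _ ⟨i, rfl⟩
      have h5 : M⁻¹.mulVec (M.mulVec mT') = mT' := by
        rw [Matrix.mulVec_mulVec, Matrix.nonsing_inv_mul _ hM, Matrix.one_mulVec]
      have h6 := hmv (M.mulVec mT') M⁻¹ i
      rwa [h5] at h6
  rw [range_append, Ideal.span_union] at hK'
  have h2 := congrArg (Ideal.map q') hK'
  rw [Ideal.map_sup, (Ideal.map_eq_bot_iff_le_ker q').2 hk'.ge, sup_bot_eq,
    Ideal.map_span, ← Set.range_comp, Ideal.map_map, hq'c, ← Ideal.map_map,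
    show Ideal.map q K₀ = J from Ideal.map_comap_of_surjective q hq J] at h2
  exact h2

end Groth.Agent.RegConormal
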