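import Mathlib
import Groth.Agent.RegConormal.Split
import Groth.Agent.RegConormal.Exchange
import Groth.Agent.KRegLib.Mor

/-!
# Regularity passes to the second immersion when the conormal sequence is split
-/

set_option autoImplicit false
set_option linter.style.haveILetI false
set_option backward.isDefEq.respectTransparency.types false

universe u

open CategoryTheory CategoryTheory.Limits AlgebraicGeometry TopologicalSpace

namespace Groth.Agent.RegConormal

open Groth.Agent.Synt29.OmegaStalk Groth.Agent.Synt29.ConormalStalk Groth.Agent.KFlatLib Groth.Agent.PPSheaf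

variable {Z Y X : Scheme.{u}} (i : Z ⟶ Y) (j : Y ⟶ X) [IsImmersion i] [IsImmersion j] [QuasiCompact i] [QuasiCompact j]
  (a : (Scheme.Modules.pullback i).obj (Omega.conormal j) ⟶ Omega.conormal (i ≫ j))
  (ha : OmegaSh.IsConormalMap (i ≫ j) j (𝟙 X) i a)
  (b : (Scheme.Modules.pullback (𝟙 Z)).obj (Omega.conormal (i ≫ j)) ⟶ Omega.conormal i)

omit [IsImmersion i] [IsImmersion j] [QuasiCompact i] [QuasiCompact j] in
/-- A local section of the second map gives a retraction of the first one on the stalk. -/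
theorem exists_retraction
    (w : a ≫ ((Scheme.Modules.pullbackId Z).inv.app (Omega.conormal (i ≫ j)) ≫ b) = 0)
    (hex : (ShortComplex.mk a ((Scheme.Modules.pullbackId Z).inv.app (Omega.conormal (i ≫ j)) ≫ b) w).ShortExact)
    (hsplit : ∀ z : ↥Z, ∃ U : Z.Opens, z ∈ U ∧
      ∃ r : (Scheme.Modules.restrictFunctor U.ι).obj (Omega.conormal i) ⟶
          (Scheme.Modules.restrictFunctor U.ι).obj (Omega.conormal (i ≫ j)),
        r ≫ (Scheme.Modules.restrictFunctor U.ι).map ((Scheme.Modules.pullbackId Z).inv.app (Omega.conormal (i ≫ j)) ≫ b) = 𝟙 _)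
    (z : Z) : ∃ ρ : St (Omega.conormal (i ≫ j)) z ⟶ St ((Scheme.Modules.pullback i).obj (Omega.conormal j)) z,
      ∀ u, ρ.hom ((DerSch.stalkFunctor Z z).map a u) = u := by
  obtain ⟨U, hzU, r, hr⟩ := hsplit z
  let c : Omega.conormal (i ≫ j) ⟶ Omega.conormal i :=
    (Scheme.Modules.pullbackId Z).inv.app (Omega.conormal (i ≫ j)) ≫ b
  let A := ((DerSch.stalkFunctor Z z).map a).hom
  let C := ((DerSch.stalkFunctor Z z).map c).hom
  let σ := (stalkAt hzU r).hom
  have hσ : ∀ v, C (σ v) = v := fun v => by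
    have e : stalkAt hzU r ≫ (DerSch.stalkFunctor Z z).map c = 𝟙 _ := by
      rw [← stalkAt_map hzU c, ← stalkAt_comp, hr, stalkAt_id]
    exact congr($e v)
  haveI := hex.mono_f
  have hA : Function.Injective A :=
    (mono_iff_stalk (ShortComplex.mk a c w).f).1 inferInstance z
  have hexz := (exact_iff_stalk _).1 hex.exact z
  rw [ShortComplex.moduleCat_exact_iff] at hexz
  have hCA : ∀ u, C (A u) = 0 := fun u => by
    have e : (DerSch.stalkFunctor Z z).map a ≫ (DerSch.stalkFunctor Z z).map c = 0 := by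
      rw [← Functor.map_comp, show a ≫ c = 0 from w, Functor.map_zero]
    exact congr($e u)
  have hmem : ∀ v, v - σ (C v) ∈ LinearMap.range A := fun v => by
    refine hexz _ ?_
    show C (v - σ (C v)) = 0
    rw [map_sub, hσ, sub_self]
  let π : St (Omega.conormal (i ≫ j)) z →ₗ[Z.presheaf.stalk z] LinearMap.range A :=
    LinearMap.codRestrict _ (LinearMap.id - σ.comp C) hmem
  refine ⟨ModuleCat.ofHom ((LinearEquiv.ofInjective A hA).symm.toLinearMap.comp π), fun u => ?_⟩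
  show (LinearEquiv.ofInjective A hA).symm (π (A u)) = u
  rw [LinearEquiv.symm_apply_eq]
  refine Subtype.ext ?_
  show A u - σ (C (A u)) = A u
  rw [hCA, map_zero, sub_zero]

include ha in
/-- On a chart, a stalk retraction makes the kernel split off modulo the prime. -/
theorem split_chart {D : X.Opens} (hD : IsAffineOpen D) (z : Z) (hxD : j (i z) ∈ D)
    [IsClosedImmersion (j ∣_ D)] [IsClosedImmersion ((i ≫ j) ∣_ D)]
    (ρ : St (Omega.conormal (i ≫ j)) z ⟶ St ((Scheme.Modules.pullback i).obj (Omega.conormal j)) z)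
    (hρ : ∀ u, ρ.hom ((DerSch.stalkFunctor Z z).map a u) = u) :
    ∃ (hW : IsAffineOpen (j ⁻¹ᵁ D)) (_ : IsClosedImmersion (i ∣_ (j ⁻¹ᵁ D))),
      Function.Surjective (j.app D).hom ∧
      (hD.primeIdealOf ⟨j (i z), hxD⟩).asIdeal =
        (hW.primeIdealOf ⟨i z, hxD⟩).asIdeal.comap (j.app D).hom ∧
      RingHom.ker ((i ≫ j).app D).hom = (RingHom.ker (i.app (j ⁻¹ᵁ D)).hom).comap (j.app D).hom ∧
      RingHom.ker (i.app (j ⁻¹ᵁ D)).hom ≤ (hW.primeIdealOf ⟨i z, hxD⟩).asIdeal ∧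
      ∀ x ∈ RingHom.ker (j.app D).hom, x ∈ (hW.primeIdealOf ⟨i z, hxD⟩).asIdeal.comap (j.app D).hom *
          (RingHom.ker (i.app (j ⁻¹ᵁ D)).hom).comap (j.app D).hom →
        ∃ s, s ∉ (hW.primeIdealOf ⟨i z, hxD⟩).asIdeal.comap (j.app D).hom ∧
          s * x ∈ (hW.primeIdealOf ⟨i z, hxD⟩).asIdeal.comap (j.app D).hom * RingHom.ker (j.app D).hom := by
  obtain ⟨hW, hq⟩ := Groth.Agent.Synt29.surjective_app_of_isClosedImmersion_restrict j D hD
  haveI hiW : IsClosedImmersion (i ∣_ (j ⁻¹ᵁ D)) := by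
    haveI : IsClosedImmersion ((i ∣_ (j ⁻¹ᵁ D)) ≫ (j ∣_ D)) := by
      rw [← morphismRestrict_comp]; exact ‹IsClosedImmersion ((i ≫ j) ∣_ D)›
    exact IsClosedImmersion.of_comp (i ∣_ (j ⁻¹ᵁ D)) (j ∣_ D)
  obtain ⟨hV, -⟩ := Groth.Agent.Synt29.surjective_app_of_isClosedImmersion_restrict i (j ⁻¹ᵁ D) hW
  let q : Γ(X, D) →+* Γ(Y, j ⁻¹ᵁ D) := (j.app D).hom
  let 𝔮 := (hW.primeIdealOf ⟨i z, hxD⟩).asIdeal
  have hp : (hD.primeIdealOf ⟨j (i z), hxD⟩).asIdeal = 𝔮.comap q := by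
    have hc := congrArg PrimeSpectrum.asIdeal
      (IsAffineOpen.comap_primeIdealOf_appLE (f := j) D hD (j ⁻¹ᵁ D) hW le_rfl (x := i z) hxD)
    have he : (j.appLE D (j ⁻¹ᵁ D) le_rfl).hom = q := by
      simp only [q, Scheme.Hom.app_eq_appLE]
    rw [← hc, PrimeSpectrum.comap_asIdeal, he]
  have hJ : RingHom.ker (i.app (j ⁻¹ᵁ D)).hom ≤ 𝔮 := KRegLib.ker_app_le_primeIdealOf i hW hV z hxD
  have hker : RingHom.ker ((i ≫ j).app D).hom = (RingHom.ker (i.app (j ⁻¹ᵁ D)).hom).comap q := by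
    rw [Scheme.Hom.comp_app]; rfl
  refine ⟨hW, hiW, hq, hp, hker, hJ, fun x hxI hxK => ?_⟩
  letI : Algebra Γ(X, D) (X.presheaf.stalk (j (i z))) := (X.presheaf.germ D (j (i z)) hxD).hom.toAlgebra
  haveI : IsLocalization.AtPrime (X.presheaf.stalk (j (i z))) (hD.primeIdealOf ⟨j (i z), hxD⟩).asIdeal :=
    hD.isLocalization_stalk ⟨j (i z), hxD⟩
  have eI : RingHom.ker (j.stalkMap (i z)).hom = (RingHom.ker q).map (algebraMap Γ(X, D) _) :=
    ker_stalkMap_eq_map j (i z) ⟨D, hD⟩ hxD inferInstance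
  have eK : (RingHom.ker (i.stalkMap z).hom).comap (j.stalkMap (i z)).hom =
      ((RingHom.ker (i.app (j ⁻¹ᵁ D)).hom).comap q).map (algebraMap Γ(X, D) (X.presheaf.stalk (j (i z)))) := by
    rw [← hker]
    refine Eq.trans ?_ (ker_stalkMap_eq_map (i ≫ j) z ⟨D, hD⟩ hxD inferInstance)
    rw [Scheme.Hom.stalkMap_comp]; rfl
  have h3 := mem_mul_ker j i a ha z ρ hρ ((𝔮.comap q).map (algebraMap Γ(X, D) _))
    (eK.le.trans (Ideal.map_mono (Ideal.comap_mono hJ)))
    (a := algebraMap Γ(X, D) _ x) (eI.ge (Ideal.mem_map_of_mem _ hxI)) (by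
      rw [eK, ← Ideal.map_mul]
      exact Ideal.mem_map_of_mem _ hxK)
  rw [eI, ← Ideal.map_mul] at h3
  obtain ⟨s, hs, hmem⟩ := (IsLocalization.algebraMap_mem_map_algebraMap_iff
    (hD.primeIdealOf ⟨j (i z), hxD⟩).asIdeal.primeCompl (X.presheaf.stalk (j (i z))) _ _).1 h3
  exact ⟨s, hp ▸ hs, hmem⟩

/-- The conversion from a sequence on a basic open of a chart. -/
theorem at_of_basicOpen {Z P : Scheme.{u}} (i : Z ⟶ P) (z : Z) (k : RegImm.Kind) {W : P.Opens} (hW : IsAffineOpen W)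
    (hzW : i z ∈ W) (hcl : IsClosedImmersion (i ∣_ W)) (g : Γ(P, W)) (hg : g ∉ (hW.primeIdealOf ⟨i z, hzW⟩).asIdeal)
    {n : ℕ}
    (v : Fin n → Γ(P, P.basicOpen g)) (hv : k.Seq Γ(P, P.basicOpen g) (List.ofFn v))
    (hvI : (RingHom.ker (i.app W).hom).map (P.presheaf.map (homOfLE (P.basicOpen_le g)).op).hom =
      Ideal.span (Set.range v)) : RegImm.IsRegularImmersionAt k i z := by
  obtain ⟨hV, hs⟩ := Groth.Agent.Synt29.surjective_app_of_isClosedImmersion_restrict i W hW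
  have hxg : i z ∈ P.basicOpen g := by
    rw [← hW.fromSpec_image_basicOpen g]
    exact ⟨hW.primeIdealOf ⟨i z, hzW⟩, hg, hW.fromSpec_primeIdealOf _⟩
  refine ⟨⟨P.basicOpen g, hW.basicOpen g⟩, hxg, KRegLib.isClosedImmersion_restrict_of_le i (P.basicOpen_le g),
    List.ofFn v, hv, ?_⟩
  refine ((KRegLib.app_basicOpen_props i hW hV hs g).2.2.trans hvI).trans ?_
  show _ = Ideal.span {y | y ∈ List.ofFn v}
  congr 1
  ext y
  simp [List.mem_ofFn]

include ha in
/-- The Koszul case. -/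
theorem koszul_at_of_retraction (z : Z) (hj : RegImm.IsRegularImmersionAt .koszul j (i z))
    (hij : RegImm.IsRegularImmersionAt .koszul (i ≫ j) z)
    (ρ : St (Omega.conormal (i ≫ j)) z ⟶ St ((Scheme.Modules.pullback i).obj (Omega.conormal j)) z)
    (hρ : ∀ u, ρ.hom ((DerSch.stalkFunctor Z z).map a u) = u) : RegImm.IsRegularImmersionAt .koszul i z := by
  obtain ⟨D₁, -, hxD₁, -, hcl₁⟩ := KRegLib.exists_affine_isClosedImmersion_restrict j (i z) ⊤ trivial
  obtain ⟨D, hD, hxD, hle, hcl⟩ := KRegLib.exists_affine_isClosedImmersion_restrict (i ≫ j) z D₁ hxD₁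
  haveI := hcl
  haveI := hcl₁
  haveI := KRegLib.isClosedImmersion_restrict_of_le j hle
  obtain ⟨hW, hiW, hq, hp, hker, hJ, hsp⟩ := split_chart i j a ha hD z hxD ρ hρ
  have h1 := KRegLib.kReg_of_regImmAt j (i z) hj hD hxD
  have h2 := KRegLib.kReg_of_regImmAt (i ≫ j) z hij hD hxD
  change KRegLib.KReg _ (hD.primeIdealOf ⟨j (i z), hxD⟩).asIdeal at h2
  rw [hp] at h1 h2
  rw [hker] at h2
  obtain ⟨g, hg, hon⟩ := (kReg_of_split _ hq _ _ hJ h1 h2 hsp).exists_on
  letI : Algebra Γ(Y, j ⁻¹ᵁ D) Γ(Y, Y.basicOpen g) :=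
    (Y.presheaf.map (homOfLE (Y.basicOpen_le g)).op).hom.toAlgebra
  haveI : IsLocalization.Away g Γ(Y, Y.basicOpen g) := hW.isLocalization_basicOpen g
  haveI : Module.Flat Γ(Y, j ⁻¹ᵁ D) Γ(Y, Y.basicOpen g) := IsLocalization.flat _ (Submonoid.powers g)
  obtain ⟨n, fs, hfs, hfI⟩ := hon Γ(Y, Y.basicOpen g) (IsLocalization.Away.algebraMap_isUnit g)
  exact at_of_basicOpen i z .koszul hW hxD hiW g hg fs (KoszulFlatLib.isKoszulRegularSeq_of_isExact hfs) hfI

theorem isQuasiRegular_cast {A : Type u} [CommRing A] {n m : ℕ} (h : n = m) (v : Fin m → A)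
    (hv : CAlgX.IsQuasiRegular v) : CAlgX.IsQuasiRegular fun i => v (Fin.cast h i) := by subst h; exact hv

theorem isH1Regular_cast {A : Type u} [CommRing A] {n m : ℕ} (h : n = m) (v : Fin m → A)
    (hv : CAlgX.IsH1Regular v) : CAlgX.IsH1Regular fun i => v (Fin.cast h i) := by subst h; exact hv

/-- The predicates handled by the exchange. -/
def SeqP (k : RegImm.Kind) {R : Type u} [CommRing R] {n : ℕ} (v : Fin n → R) : Prop :=
  (k = .h1 ∧ CAlgX.IsH1Regular v) ∨ (k = .quasi ∧ CAlgX.IsQuasiRegular v)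

theorem seqP_localization {k : RegImm.Kind} {A B : Type u} [CommRing A] [CommRing B] [Algebra A B] (M : Submonoid A)
    [IsLocalization M B] {n : ℕ} (v : Fin n → A) (h : SeqP k v) : SeqP k fun i => algebraMap A B (v i) := by
  haveI : Module.Flat A B := IsLocalization.flat B M
  rcases h with ⟨hk, h⟩ | ⟨hk, h⟩
  · exact Or.inl ⟨hk, isH1Regular_localization M v h⟩
  · exact Or.inr ⟨hk, Synt29.QRDescent.qr_flat h⟩

theorem seqP_rel {k : RegImm.Kind} {A : Type u} [CommRing A] {n : ℕ} (v : Fin n → A) (h : SeqP k v)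
    (u : Fin n → A) (hu : ∑ i, u i * v i = 0) (l : Fin n) : u l ∈ Ideal.span (Set.range v) := by
  rcases h with ⟨-, h⟩ | ⟨-, h⟩
  · exact coeff_mem_of_h1 v h u (by rw [hu]; exact zero_mem _) l
  · exact Synt29.QRDescent.mem_of_rel h u hu l

theorem seq_of_seqP {k : RegImm.Kind} {R : Type u} [CommRing R] {n : ℕ} (v : Fin n → R) (h : SeqP k v) :
    k.Seq R (List.ofFn v) := by
  have hv : (List.ofFn v).get = fun i => v (Fin.cast List.length_ofFn i) := funext fun i => by simp; rfl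
  rcases h with ⟨rfl, h⟩ | ⟨rfl, h⟩
  · show CAlgX.IsH1Regular (List.ofFn v).get
    rw [hv]; exact isH1Regular_cast List.length_ofFn v h
  · show CAlgX.IsQuasiRegular (List.ofFn v).get
    rw [hv]; exact isQuasiRegular_cast List.length_ofFn v h

theorem seqP_of_seq {k : RegImm.Kind} (hk : k = .h1 ∨ k = .quasi) {R : Type u} [CommRing R] (rs : List R)
    (h : k.Seq R rs) : SeqP k rs.get := by
  rcases hk with rfl | rfl
  · exact Or.inl ⟨rfl, h⟩
  · exact Or.inr ⟨rfl, h⟩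

theorem seqP_quot {k : RegImm.Kind} {A S : Type u} [CommRing A] [CommRing S] (q : A →+* S)
    (hq : Function.Surjective q) {n t r : ℕ} (hn : t + r = n) (m : Fin n → A) (g : Fin t → A) (F : Fin r → A)
    (M : Matrix (Fin (t + r)) (Fin (t + r)) A) (hM : IsUnit M.det)
    (he : Fin.append g F = M.mulVec fun l => m (Fin.cast hn l))
    (hker : RingHom.ker q = Ideal.span (Set.range F)) (h : SeqP k m) : SeqP k (q ∘ g) := by
  rcases h with ⟨hk, h⟩ | ⟨hk, h⟩
  · exact Or.inl ⟨hk, isH1Regular_of_append q hq g F hker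
      (isH1Regular_of_matrix _ _ (isH1Regular_cast hn m h) M hM he)⟩
  · refine Or.inr ⟨hk, isQuasiRegular_of_append q hq g F hker
      (LinType.isQuasiRegular_of_span_eq _ _ (isQuasiRegular_cast hn m h) ?_)⟩
    let v : Fin (t + r) → A := fun l => m (Fin.cast hn l)
    have hmv : ∀ (w : Fin (t + r) → A) (B : Matrix (Fin (t + r)) (Fin (t + r)) A) (i : Fin (t + r)),
        B.mulVec w i ∈ Ideal.span (Set.range w) := fun w B i =>
      (show ∑ l, B i l * w l ∈ Ideal.span (Set.range w) from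
        sum_mem fun l _ => Ideal.mul_mem_left _ _ (Ideal.subset_span (Set.mem_range_self l)))
    rw [he]
    refine le_antisymm (Ideal.span_le.2 ?_) (Ideal.span_le.2 ?_)
    · rintro _ ⟨i, rfl⟩
      exact hmv v M i
    · rintro _ ⟨i, rfl⟩
      have h5 : M⁻¹.mulVec (M.mulVec v) = v := by
        rw [Matrix.mulVec_mulVec, Matrix.nonsing_inv_mul _ hM, Matrix.one_mulVec]
      have h6 := hmv (M.mulVec v) M⁻¹ i
      rwa [h5] at h6

include ha in
/-- The `H_1`-regular and quasi-regular cases. -/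
theorem at_of_retraction [LocallyOfFinitePresentation j] (k : RegImm.Kind) (hk : k = .h1 ∨ k = .quasi) (z : Z)
    (hij : RegImm.IsRegularImmersionAt k (i ≫ j) z)
    (ρ : St (Omega.conormal (i ≫ j)) z ⟶ St ((Scheme.Modules.pullback i).obj (Omega.conormal j)) z)
    (hρ : ∀ u, ρ.hom ((DerSch.stalkFunctor Z z).map a u) = u) : RegImm.IsRegularImmersionAt k i z := by
  obtain ⟨⟨W, hWaff⟩, hzW, hclW, rs, hrs, hkerW⟩ := hij
  obtain ⟨D₁, hD₁, hxD₁, -, hcl₁⟩ := KRegLib.exists_affine_isClosedImmersion_restrict j (i z) ⊤ trivial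
  obtain ⟨g₀, hg₀, hxg₀⟩ := hWaff.exists_basicOpen_le ⟨j (i z), hxD₁⟩ hzW
  let D := X.basicOpen g₀
  have hD : IsAffineOpen D := hWaff.basicOpen g₀
  haveI := hclW
  haveI := hcl₁
  haveI : IsClosedImmersion ((i ≫ j) ∣_ D) := KRegLib.isClosedImmersion_restrict_of_le (i ≫ j) (X.basicOpen_le g₀)
  haveI : IsClosedImmersion (j ∣_ D) := KRegLib.isClosedImmersion_restrict_of_le j hg₀
  obtain ⟨hW, hiW, hq, hp, hker, hJ, hsp⟩ := split_chart i j a ha hD z hxg₀ ρ hρ
  obtain ⟨hW', hWs⟩ := Groth.Agent.Synt29.surjective_app_of_isClosedImmersion_restrict (i ≫ j) W hWaff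
  letI : Algebra Γ(X, W) Γ(X, D) := (X.presheaf.map (homOfLE (X.basicOpen_le g₀)).op).hom.toAlgebra
  haveI : IsLocalization.Away g₀ Γ(X, D) := hWaff.isLocalization_basicOpen g₀
  let m : Fin rs.length → Γ(X, D) := fun l => algebraMap Γ(X, W) Γ(X, D) (rs.get l)
  have hmP : SeqP k m := seqP_localization (Submonoid.powers g₀) _ (seqP_of_seq hk rs hrs)
  have hm : Ideal.span (Set.range m) = (RingHom.ker (i.app (j ⁻¹ᵁ D)).hom).comap (j.app D).hom := by
    rw [← hker, (KRegLib.app_basicOpen_props (i ≫ j) hWaff hW' hWs g₀).2.2,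
      hkerW, show Ideal.ofList rs = Ideal.span (Set.range rs.get) from congrArg Ideal.span (Set.range_list_get rs).symm,
      Ideal.map_span, ← Set.range_comp]
    rfl
  have hfg : (RingHom.ker (j.app D).hom).FG := by
    have hfp := j.finitePresentation_appLE hD hW le_rfl
    rw [show (j.appLE D (j ⁻¹ᵁ D) le_rfl).hom = (j.app D).hom by rw [Scheme.Hom.app_eq_appLE]] at hfp
    letI := (j.app D).hom.toAlgebra
    haveI : Algebra.FinitePresentation Γ(X, D) Γ(Y, j ⁻¹ᵁ D) := hfp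
    exact Algebra.FinitePresentation.ker_fG_of_surjective (Algebra.ofId Γ(X, D) Γ(Y, j ⁻¹ᵁ D)) hq
  obtain ⟨G, hG, q', t, r, g, F, hn, M, hM, hMe, hq', hkF, hgJ⟩ := exists_seq_of_split (j.app D).hom hq hfg
    (RingHom.ker (i.app (j ⁻¹ᵁ D)).hom) (hW.primeIdealOf ⟨i z, hxg₀⟩).asIdeal hJ m hm
    (fun T _ _ S _ u hu l => by
      have := seqP_rel _ (seqP_localization (B := T) S m hmP) u hu l
      rw [← hm, Ideal.map_span, ← Set.range_comp]
      exact this) hsp
  haveI : IsLocalization.Away G (Localization.Away G) := inferInstance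
  have hP := seqP_quot q' hq' hn (fun l => algebraMap Γ(X, D) (Localization.Away G) (m l)) g F M hM hMe hkF
    (seqP_localization (Submonoid.powers G) m hmP)
  let g₁ : Γ(Y, j ⁻¹ᵁ D) := (j.app D).hom G
  letI : Algebra Γ(Y, j ⁻¹ᵁ D) Γ(Y, Y.basicOpen g₁) :=
    (Y.presheaf.map (homOfLE (Y.basicOpen_le g₁)).op).hom.toAlgebra
  haveI : IsLocalization.Away g₁ Γ(Y, Y.basicOpen g₁) := hW.isLocalization_basicOpen g₁
  let ε : Localization.Away g₁ ≃ₐ[Γ(Y, j ⁻¹ᵁ D)] Γ(Y, Y.basicOpen g₁) :=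
    IsLocalization.algEquiv (Submonoid.powers g₁) _ _
  letI : Algebra (Localization.Away g₁) Γ(Y, Y.basicOpen g₁) := ε.toAlgHom.toRingHom.toAlgebra
  haveI : IsLocalization (⊥ : Submonoid (Localization.Away g₁)) (Localization.Away g₁) :=
    IsLocalization.self bot_le
  haveI : IsLocalization (⊥ : Submonoid (Localization.Away g₁)) Γ(Y, Y.basicOpen g₁) :=
    IsLocalization.isLocalization_of_algEquiv (⊥ : Submonoid (Localization.Away g₁))
      (AlgEquiv.ofBijective (Algebra.ofId (Localization.Away g₁) Γ(Y, Y.basicOpen g₁)) ε.bijective)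
  refine at_of_basicOpen i z k hW hxg₀ hiW g₁ hG (fun l => ε (q' (g l)))
    (seq_of_seqP _ (seqP_localization (⊥ : Submonoid (Localization.Away g₁)) _ hP)) ?_
  show (RingHom.ker (i.app (j ⁻¹ᵁ D)).hom).map (algebraMap Γ(Y, j ⁻¹ᵁ D) Γ(Y, Y.basicOpen g₁)) = _
  rw [← ε.toAlgHom.comp_algebraMap, ← Ideal.map_map]
  erw [← hgJ]
  rw [Ideal.map_span, ← Set.range_comp]
  rfl

end Groth.Agent.RegConormal
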