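import Mathlib
import Groth.Agent.RegConormal.Free
import Groth.Agent.S9371

/-!
# The conormal sheaf of a complete intersection of closed subschemes
-/

set_option autoImplicit false
set_option linter.style.haveILetI false
set_option backward.isDefEq.respectTransparency.types false

universe u

open CategoryTheory CategoryTheory.Limits AlgebraicGeometry TopologicalSpace Opposite Module

namespace Groth.Agent.RegConormal

open Groth.Agent.Synt29.OmegaStalk Groth.Agent.Synt29.ConormalStalk Groth.Agent.KFlatLib Groth.Agent.PPSheaf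

variable {X Y : Scheme.{u}}

/-- The stalk of a finite coproduct is generated by the stalks of the summands. -/
theorem exists_stalk_sum {r : ℕ} (M : Fin r → Y.Modules) (y : Y) (m : St (∐ M) y) :
    ∃ v : ∀ l, St (M l) y, m = ∑ l, (DerSch.stalkFunctor Y y).map (Sigma.ι M l) (v l) := by
  let p : ∀ l, ∐ M ⟶ M l := fun l =>
    Sigma.desc fun k => if h : k = l then eqToHom (congrArg M h) else 0
  have hp : ∑ l, p l ≫ Sigma.ι M l = 𝟙 _ := by
    refine Sigma.hom_ext _ _ fun k => ?_
    rw [Preadditive.comp_sum, Category.comp_id, Finset.sum_eq_single k]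
    · simp [p]
    · intro l _ hl
      simp [p, dif_neg (Ne.symm hl)]
    · simp
  refine ⟨fun l => (DerSch.stalkFunctor Y y).map (p l) m, ?_⟩
  have h0 : m = (DerSch.stalkFunctor Y y).map (𝟙 _) m := by
    rw [CategoryTheory.Functor.map_id]; rfl
  rw [← hp, Functor.map_sum] at h0
  refine h0.trans ?_
  let ev : (St (∐ M) y ⟶ St (∐ M) y) →+ St (∐ M) y :=
    { toFun := fun φ => φ m
      map_zero' := rfl
      map_add' := fun _ _ => rfl }
  refine (map_sum ev _ _).trans (Finset.sum_congr rfl fun l _ => ?_)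
  change (DerSch.stalkFunctor Y y).map _ m = _
  rw [Functor.map_comp]
  rfl

/-- Generators of the pulled back conormal stalk of a Koszul regular immersion through which `i` factors. -/
theorem exists_gens {W : Scheme.{u}} (f : W ⟶ X) [IsClosedImmersion f] (g : Y ⟶ W) [IsClosedImmersion g]
    (i : Y ⟶ X) (h : g ≫ f = i) (d : ℕ) (hf : RegImm.IsRegularImmersionOfCodim RegImm.Kind.koszul d f)
    (φ : (Scheme.Modules.pullback g).obj (Omega.conormal f) ⟶ Omega.conormal i)
    (hφ : OmegaSh.IsConormalMap i f (𝟙 X) g φ) (y : Y) (V : X.affineOpens) (hyV : i y ∈ V.1) :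
    ∃ (e : Fin d → St ((Scheme.Modules.pullback g).obj (Omega.conormal f)) y) (b : Fin d → X.presheaf.stalk (i y))
      (μ : Fin d → St (I i) (i y)),
      (∀ m, ∃ c : Fin d → Y.presheaf.stalk y, ∑ k, c k • e k = m) ∧
      (∀ k, Rep i (i y) (μ k) (b k) ∧ (DerSch.stalkFunctor Y y).map φ (e k) = cls i y (μ k)) ∧
      Ideal.span (Set.range b) = (f.ker.ideal V).map (X.presheaf.germ V.1 (i y) hyV).hom := by
  subst h
  obtain ⟨U, hzU, hcl, rs, hlen, hrs, hker⟩ := hf.2 (g y)
  subst hlen
  have h0 : ∀ k, f.app U.1 (rs.get k) = 0 := fun k => by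
    refine RingHom.mem_ker.1 (hker ▸ (?_ : rs.get k ∈ Ideal.ofList rs))
    exact Ideal.subset_span (List.get_mem rs k)
  choose s hs using fun k => OmegaUniv.exists_idealSect_of_app_eq_zero f U.1 _ (h0 k)
  let b : Fin rs.length → X.presheaf.stalk (f (g y)) := fun k => X.presheaf.germ U.1 (f (g y)) hzU (rs.get k)
  have hrep : ∀ k, Rep f (f (g y)) (gm (I f) hzU (s k)) (b k) := fun k => ⟨U.1, hzU, s k, rfl, by rw [hs]⟩
  choose e μ hμ he he' using fun k => fst_cls f g φ hφ y (hrep k)
  have hb : Ideal.span (Set.range b) = RingHom.ker (f.stalkMap (g y)).hom := by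
    rw [ker_stalkMap_eq_map f (g y) U hzU hcl, hker,
      show Ideal.ofList rs = Ideal.span (Set.range rs.get) from congrArg Ideal.span (Set.range_list_get rs).symm,
      Ideal.map_span, ← Set.range_comp]
    rfl
  refine ⟨e, b, μ, fun m => ?_, fun k => ⟨hμ k, he' k⟩, ?_⟩
  · obtain ⟨v, hv⟩ := Groth.Agent.Synt29.ConormalExact.exists_unit g y (g.stalkMap_surjective y) _ m
    obtain ⟨O, hx, t, rfl⟩ := exists_conormalSect f (g y) v
    have ht : Rep f (f (g y)) (gm (I f) hx t) (X.presheaf.germ O (f (g y)) hx (OmegaSh.idealSect f.ker O t)) :=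
      ⟨O, hx, t, rfl, rfl⟩
    obtain ⟨a, ha⟩ := Ideal.mem_span_range_iff_exists_fun.1 (hb.ge (RingHom.mem_ker.2 (rep_mem f ht)))
    let P := (stalkPullbackIso g y).app (Omega.conormal f)
    refine ⟨fun k => g.stalkMap y (f.stalkMap (g y) (a k)), ?_⟩
    refine (ConcreteCategory.bijective_of_isIso P.hom).1 (Eq.trans ?_ hv.symm)
    have key : ∀ S : Finset (Fin rs.length),
        Rep f (f (g y)) (∑ k ∈ S, a k • gm (I f) hzU (s k)) (∑ k ∈ S, a k * b k) ∧
          P.hom (∑ k ∈ S, g.stalkMap y (f.stalkMap (g y) (a k)) • e k) =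
            un1 g y (Omega.conormal f) (cls f (g y) (∑ k ∈ S, a k • gm (I f) hzU (s k))) := by
      intro S
      induction S using Finset.induction_on with
      | empty =>
        simp only [Finset.sum_empty]
        refine ⟨rep_zero f _, (map_zero P.hom.hom).trans ?_⟩
        rw [(cls_eq_zero_iff f (g y) (rep_zero f (f (g y)))).2 (zero_mem _)]
        exact (map_zero _).symm
      | insert k S hk ih =>
        rw [Finset.sum_insert hk, Finset.sum_insert hk, Finset.sum_insert hk]
        refine ⟨rep_add f (rep_smul f (hrep k) _) ih.1, ?_⟩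
        rw [cls_add, cls_smul]
        refine (map_add P.hom.hom _ _).trans (Eq.trans ?_ (map_add _ _ _).symm)
        exact congrArg₂ (· + ·) (((map_smul P.hom.hom _ _).trans (congrArg
          (g.stalkMap y (f.stalkMap (g y) (a k)) • ·) (he k))).trans (un1_smul g y _ _ _).symm) ih.2
    refine (key Finset.univ).2.trans (congrArg (un1 g y (Omega.conormal f)) ?_)
    rw [cls_gm f (g y) hx t]
    exact congrArg (cls f (g y)) (rep_inj f ((show ∑ k, a k * b k = _ from ha) ▸ (key Finset.univ).1) ht)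
  · refine hb.trans ?_
    haveI : IsClosedImmersion (f ∣_ V.1) := inferInstance
    rw [Scheme.Hom.ker_apply f V]
    exact ker_stalkMap_eq_map f (g y) V hyV inferInstance

/-- The conormal sheaf of a complete intersection is the sum of the restricted conormal sheaves. -/
theorem nonempty_iso_coprod (r : ℕ) (Xs : Fin r → Scheme.{u}) (j : ∀ l, Xs l ⟶ X) [∀ l, IsClosedImmersion (j l)]
    (d : Fin r → ℕ) (hj : ∀ l, RegImm.IsRegularImmersionOfCodim RegImm.Kind.koszul (d l) (j l))
    (i : Y ⟶ X) [IsClosedImmersion i] (hY : ∀ U : X.affineOpens, i.ker.ideal U = ⨆ l, (j l).ker.ideal U)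
    (g : ∀ l, Y ⟶ Xs l) (hg : ∀ l, g l ≫ j l = i)
    (hi : RegImm.IsRegularImmersionOfCodim RegImm.Kind.koszul (∑ l, d l) i) :
    Nonempty (Omega.conormal i ≅ ∐ fun l => (Scheme.Modules.pullback (g l)).obj (Omega.conormal (j l))) := by
  classical
  have hgc : ∀ l, IsClosedImmersion (g l) := fun l => by
    haveI : IsClosedImmersion (g l ≫ j l) := by rw [hg l]; infer_instance
    exact IsClosedImmersion.of_comp (g l) (j l)
  have hφ := fun l => (Groth.Agent.S9371.result i (j l) (𝟙 X) (g l) (by rw [hg l, Category.comp_id])).exists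
  choose φ hφ using hφ
  let M := fun l => (Scheme.Modules.pullback (g l)).obj (Omega.conormal (j l))
  let Φ : ∐ M ⟶ Omega.conormal i := Sigma.desc φ
  suffices IsIso Φ from ⟨(asIso Φ).symm⟩
  refine Groth.Agent.KFlatLib.isIso_of_stalk _ fun y => (ConcreteCategory.isIso_iff_bijective _).2 ?_
  obtain ⟨U, hyU, hcl, rs, hlen, hrs, hker⟩ := hi.2 y
  obtain ⟨V, hV, hyV, -⟩ := exists_isAffineOpen_mem_and_subset (x := i y) (U := ⊤) trivial
  choose e b μ hgen hμ hb using fun l =>
    haveI := hgc l
    exists_gens (j l) (g l) i (hg l) (d l) (hj l) (φ l) (hφ l) y ⟨V, hV⟩ hyV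
  let A := Y.presheaf.stalk y
  let ι := Σ l, Fin (d l)
  let B : ι → X.presheaf.stalk (i y) := fun p => b p.1 p.2
  have hK : RingHom.ker (i.stalkMap y).hom = Ideal.span (Set.range B) := by
    haveI : IsClosedImmersion (i ∣_ V) := inferInstance
    rw [ker_stalkMap_eq_map i y ⟨V, hV⟩ hyV inferInstance, ← Scheme.Hom.ker_apply i ⟨V, hV⟩, hY, Ideal.map_iSup,
      show Set.range B = ⋃ l, Set.range (b l) from Set.range_sigma_eq_iUnion_range B, Ideal.span_iUnion]
    exact iSup_congr fun l => (hb l).symm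
  let ev : ι → St (∐ M) y := fun p => (DerSch.stalkFunctor Y y).map (Sigma.ι M p.1) (e p.1 p.2)
  let cv : ι → St (Omega.conormal i) y := fun p => cls i y (μ p.1 p.2)
  have hev : ∀ p, (DerSch.stalkFunctor Y y).map Φ (ev p) = cv p := fun p => by
    show (DerSch.stalkFunctor Y y).map Φ ((DerSch.stalkFunctor Y y).map (Sigma.ι M p.1) (e p.1 p.2)) = _
    rw [← CategoryTheory.comp_apply, ← Functor.map_comp, Sigma.ι_desc]
    exact (hμ p.1 p.2).2
  let π : (ι → A) →ₗ[A] St (∐ M) y := Fintype.linearCombination A ev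
  let L : (ι → A) →ₗ[A] St (Omega.conormal i) y := Fintype.linearCombination A cv
  have hLπ : ∀ c, (DerSch.stalkFunctor Y y).map Φ (π c) = L c := fun c => by
    simp only [π, L, Fintype.linearCombination_apply, map_sum, map_smul, hev]
  have hπ : Function.Surjective π := by
    intro m
    obtain ⟨v, rfl⟩ := exists_stalk_sum M y m
    choose c hc using fun l => hgen l (v l)
    refine ⟨fun p => c p.1 p.2, ?_⟩
    rw [Fintype.linearCombination_apply, Fintype.sum_sigma]
    refine Finset.sum_congr rfl fun l _ => ?_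
    rw [← hc l, map_sum]
    exact Finset.sum_congr rfl fun k _ => (map_smul _ _ _).symm
  have hL : Function.Surjective L := by
    intro z
    obtain ⟨O, hx, t, rfl⟩ := exists_conormalSect i y z
    have ht : Rep i (i y) (gm (I i) hx t) (X.presheaf.germ O (i y) hx (OmegaSh.idealSect i.ker O t)) :=
      ⟨O, hx, t, rfl, rfl⟩
    obtain ⟨a, ha⟩ := Ideal.mem_span_range_iff_exists_fun.1 (hK.le (RingHom.mem_ker.2 (rep_mem i ht)))
    have key : ∀ S : Finset ι, Rep i (i y) (∑ p ∈ S, a p • μ p.1 p.2) (∑ p ∈ S, a p * B p) ∧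
        ∑ p ∈ S, i.stalkMap y (a p) • cv p = cls i y (∑ p ∈ S, a p • μ p.1 p.2) := by
      intro S
      induction S using Finset.induction_on with
      | empty =>
        simp only [Finset.sum_empty]
        exact ⟨rep_zero i _, ((cls_eq_zero_iff i y (rep_zero i (i y))).2 (zero_mem _)).symm⟩
      | insert p S hp ih =>
        rw [Finset.sum_insert hp, Finset.sum_insert hp, Finset.sum_insert hp]
        refine ⟨rep_add i (rep_smul i (hμ p.1 p.2).1 _) ih.1, ?_⟩
        rw [ih.2, cls_add, cls_smul]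
    refine ⟨fun p => i.stalkMap y (a p), ?_⟩
    rw [Fintype.linearCombination_apply, cls_gm i y hx t]
    refine (key Finset.univ).2.trans (congrArg (cls i y) ?_)
    exact rep_inj i ((show ∑ p, a p * B p = _ from ha) ▸ (key Finset.univ).1) ht
  obtain ⟨G, hG⟩ := exists_freeIso_conormal i U hcl rs hker fun y' hy' a ha l => by
    letI : Algebra Γ(X, U.1) (X.presheaf.stalk (i y')) := (X.presheaf.germ U.1 (i y') hy').hom.toAlgebra
    haveI : IsLocalization.AtPrime (X.presheaf.stalk (i y')) (U.2.primeIdealOf ⟨i y', hy'⟩).asIdeal :=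
      U.2.isLocalization_stalk ⟨i y', hy'⟩
    have hf := isH1Regular_localization (B := X.presheaf.stalk (i y'))
      (U.2.primeIdealOf ⟨i y', hy'⟩).asIdeal.primeCompl rs.get (KRegLib.h1_of_koszul rs hrs)
    have hK' : RingHom.ker (i.stalkMap y').hom =
        Ideal.span (Set.range fun l => algebraMap Γ(X, U.1) (X.presheaf.stalk (i y')) (rs.get l)) := by
      rw [ker_stalkMap_eq_map i y' U hy' hcl, hker,
        show Ideal.ofList rs = Ideal.span (Set.range rs.get) from congrArg Ideal.span (Set.range_list_get rs).symm,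
        Ideal.map_span, ← Set.range_comp]
      rfl
    rw [hK'] at ha ⊢
    exact coeff_mem_of_h1 _ hf a ha l
  have hbij : Function.Bijective (stalkAt (show y ∈ i ⁻¹ᵁ U.1 from hyU) G) := by
    haveI : IsIso (stalkAt (show y ∈ i ⁻¹ᵁ U.1 from hyU) G) :=
      ⟨stalkAt (show y ∈ i ⁻¹ᵁ U.1 from hyU) (inv G), by rw [← stalkAt_comp, IsIso.hom_inv_id, stalkAt_id],
        by rw [← stalkAt_comp, IsIso.inv_hom_id, stalkAt_id]⟩
    exact ConcreteCategory.bijective_of_isIso _
  let bas := ((eBasis y rs.length).map (LinearEquiv.ofBijective (stalkAt (show y ∈ i ⁻¹ᵁ U.1 from hyU) G).hom hbij))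
  let eι : ι ≃ Fin rs.length := Fintype.equivFinOfCardEq (by simp [ι, hlen])
  let ψ : (ι → A) →ₗ[A] (ι → A) := (bas.reindex eι.symm).equivFun.toLinearMap.comp L
  have hψ : Function.Injective ψ :=
    OrzechProperty.injective_of_surjective_endomorphism ψ ((bas.reindex eι.symm).equivFun.surjective.comp hL)
  refine ⟨fun m m' hm => ?_, fun z => ?_⟩
  · obtain ⟨c, rfl⟩ := hπ m
    obtain ⟨c', rfl⟩ := hπ m'
    rw [hLπ, hLπ] at hm
    rw [hψ (show ψ c = ψ c' from congrArg (bas.reindex eι.symm).equivFun hm)]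
  · obtain ⟨c, rfl⟩ := hL z
    exact ⟨π c, hLπ c⟩

end Groth.Agent.RegConormal
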